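import Mathlib
import Cfsg.Agent.Lib.AutSL2Out
import Cfsg.Agent.TwoFusion.SLTwoFacts
import Cfsg.Agent.LieRecognition.FieldSemilinear

/-!
# NO-3S, `q = 2`, `n = 1`, a component `SL₂(F)`: automorphisms of `SL(2,F)`, `F` finite of characteristic 2

`IsInn α` : `α` is inner; `exists_form` : `α x = s * σ(x) * s⁻¹`; `up_of_fix` : an automorphism trivial on the
upper unitriangular group `U` is conjugation by an element of `U`; `up_of_inn` : an inner automorphism of order 2
which normalises `U` is conjugation by an element of `U`; `inn_mul` : two commuting non-inner involutions have an inner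
product; `eq_top_of_normal` : `SL(2,F)` is simple, `|F| ≥ 4`.
-/

set_option autoImplicit false
set_option linter.unusedSectionVars false

namespace Cfsg.Agent.Omega.NO3S.SLTwo

open Matrix Subgroup Cfsg.Agent.Lib.SL2Mat Cfsg.Agent.Lib.AutSL2 Cfsg.Agent.Lib.AutSL2Out

variable {F : Type*} [Field F]

local notation "SL2" => Matrix.SpecialLinearGroup (Fin 2) F

/-- inner automorphisms -/
def IsInn (α : MulAut SL2) : Prop := ∃ s : SL2, ∀ x, α x = s * x * s⁻¹

theorem fieldAut_one : fieldAut (1 : F ≃+* F) = 1 := map_one _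

theorem isInn_one : IsInn (1 : MulAut SL2) := ⟨1, fun x => by simp⟩

theorem IsInn.mul {α β : MulAut SL2} (h : IsInn α) (h' : IsInn β) : IsInn (α * β) := by
  obtain ⟨s, hs⟩ := h
  obtain ⟨t, ht⟩ := h'
  exact ⟨s * t, fun x => by rw [MulAut.mul_apply, ht, hs]; group⟩

theorem IsInn.inv {α : MulAut SL2} (h : IsInn α) : IsInn α⁻¹ := by
  obtain ⟨s, hs⟩ := h
  refine ⟨s⁻¹, fun x => ?_⟩
  apply α.injective
  rw [MulAut.apply_inv_self, hs]
  group

theorem ent_up_mul (b : F) (x : SL2) (i : Fin 2) : ent (up b * x) 0 i = ent x 0 i + b * ent x 1 i := by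
  rw [ent_mul, up_00, up_01, one_mul]

theorem ent_mul_up (b : F) (x : SL2) (i : Fin 2) : ent (x * up b) i 1 = ent x i 0 * b + ent x i 1 := by
  rw [ent_mul, up_01, up_11, mul_one]

variable [CharP F 2]

theorem two_eq : (2 : F) = 0 := CharTwo.two_eq_zero

/-- `s` centralises `up b ↦ up (σ b)`: then `σ = 1` and `s ∈ U` -/
theorem of_fix {s : SL2} {σ : F ≃+* F} (h : ∀ b, s * up (σ b) * s⁻¹ = up b) : σ = 1 ∧ ∃ q, s = up q := by
  have h1 : ∀ b, s * up (σ b) = up b * s := fun b => by rw [← h b]; group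
  have h10 : ent s 1 0 = 0 := by
    have e := congrArg (fun y => ent y 0 0) (h1 1)
    simp only [ent_mul, up_00, up_01, up_10, map_one, mul_one, one_mul, mul_zero, add_zero] at e
    linear_combination -e
  have hd := det_eq s
  rw [h10, mul_zero, sub_zero] at hd
  have h2 : ∀ b, ent s 0 0 * σ b = b * ent s 1 1 := fun b => by
    have e := congrArg (fun y => ent y 0 1) (h1 b)
    simp only [ent_mul, up_00, up_01, up_11, mul_one, one_mul] at e
    linear_combination e
  have h3 : ent s 0 0 = ent s 1 1 := by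
    have := h2 1
    rwa [map_one, mul_one, one_mul] at this
  have h4 : ent s 0 0 = 1 := by
    have h5 : (ent s 0 0 - 1) * (ent s 0 0 - 1) = 0 := by
      rw [← h3] at hd
      linear_combination hd + (1 - ent s 0 0) * (two_eq (F := F))
    exact sub_eq_zero.1 (mul_self_eq_zero.1 h5)
  have h5 : ent s 1 1 = 1 := by rw [← h3, h4]
  refine ⟨?_, ent s 0 1, ?_⟩
  · ext b
    have := h2 b
    rwa [h4, h5, one_mul, mul_one] at this
  · refine ext_ent ?_ ?_ ?_ ?_
    · rw [h4, up_00]
    · rw [up_01]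
    · rw [h10, up_10]
    · rw [h5, up_11]

/-- the centre is trivial -/
theorem eq_one_of_comm {s : SL2} (h : ∀ x : SL2, s * x = x * s) : s = 1 := by
  obtain ⟨-, q, rfl⟩ := of_fix (s := s) (σ := 1) (fun b => by
    change s * up b * s⁻¹ = up b
    rw [h]; group)
  have h1 := congrArg (fun y => ent y 0 0) (h (lo 1))
  simp only [ent_mul, up_00, up_01, lo_00, lo_10, lo_01, mul_one, zero_mul, add_zero] at h1
  have : q = 0 := by linear_combination h1
  rw [this, up_zero]

theorem eq_of_conj {s t : SL2} (h : ∀ x : SL2, s * x * s⁻¹ = t * x * t⁻¹) : s = t := by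
  have h1 : t⁻¹ * s = 1 := by
    refine eq_one_of_comm fun x => ?_
    have := h x
    calc t⁻¹ * s * x = t⁻¹ * (s * x * s⁻¹) * s := by group
      _ = t⁻¹ * (t * x * t⁻¹) * s := by rw [this]
      _ = x * (t⁻¹ * s) := by group
  rw [inv_mul_eq_one] at h1
  exact h1.symm

section fin

variable [Finite F]

/-- the automorphisms of `SL(2,F)` -/
theorem exists_form (α : MulAut SL2) : ∃ (s : SL2) (σ : F ≃+* F), ∀ x, α x = s * fieldAut σ x * s⁻¹ := by
  obtain ⟨g, σ, rfl⟩ := exists_eq α
  obtain ⟨d, hd⟩ : ∃ d : F, g.1.det = d ^ 2 := by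
    have : Fintype F := Fintype.ofFinite F
    obtain ⟨d, hd⟩ := FiniteField.isSquare_of_char_two (F := F) (ringChar.eq F 2).symm.symm g.1.det
    exact ⟨d, by rw [hd, pow_two]⟩
  have hdet : g.1.det ≠ 0 := (Matrix.GeneralLinearGroup.det g).ne_zero
  obtain ⟨s, hs⟩ := conjGL_of_det_sq g d (by rintro rfl; exact hdet (by rw [hd]; simp)) hd
  exact ⟨s, σ, fun x => by rw [MulAut.mul_apply, hs]⟩

/-- an automorphism trivial on `U` is conjugation by an element of `U` -/
theorem up_of_fix {α : MulAut SL2} (h : ∀ b, α (up b) = up b) : ∃ q, ∀ x, α x = up q * x * (up q)⁻¹ := by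
  obtain ⟨s, σ, hα⟩ := exists_form α
  obtain ⟨rfl, q, rfl⟩ := of_fix (s := s) (σ := σ) (fun b => by rw [← fieldAut_up, ← hα, h])
  exact ⟨q, fun x => by rw [hα, fieldAut_one, MulAut.one_apply]⟩

/-- the field part of an inner automorphism is trivial -/
theorem field_eq_one {α : MulAut SL2} (hα : IsInn α) {s : SL2} {σ : F ≃+* F}
    (h : ∀ x, α x = s * fieldAut σ x * s⁻¹) : σ = 1 := by
  obtain ⟨t, ht⟩ := hα
  refine (of_fix (s := t⁻¹ * s) (σ := σ) fun b => ?_).1
  rw [← fieldAut_up]
  have := h (up b)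
  rw [ht] at this
  calc t⁻¹ * s * fieldAut σ (up b) * (t⁻¹ * s)⁻¹ = t⁻¹ * (s * fieldAut σ (up b) * s⁻¹) * t := by group
    _ = t⁻¹ * (t * up b * t⁻¹) * t := by rw [this]
    _ = up b := by group

/-- an inner automorphism of order 2 which normalises `U` -/
theorem up_of_inn {α : MulAut SL2} (hα : IsInn α) (h2 : ∀ x, α (α x) = x) (hU : ∀ b, ∃ c, α (up b) = up c) :
    ∃ q, ∀ x, α x = up q * x * (up q)⁻¹ := by
  obtain ⟨s, hs⟩ := hα
  have h10 : ent s 1 0 = 0 := by
    obtain ⟨c, hc⟩ := hU 1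
    rw [hs] at hc
    have h1 : s * up 1 = up c * s := by rw [← hc]; group
    have e1 := congrArg (fun y => ent y 1 1) h1
    simp only [ent_mul, up_10, up_01, up_11, mul_one, one_mul, zero_mul, zero_add] at e1
    linear_combination e1
  have hss : s * s = 1 := by
    refine eq_one_of_comm fun x => ?_
    have := h2 x
    rw [hs, hs] at this
    calc s * s * x = s * (s * x * s⁻¹) * s⁻¹ * (s * s) := by group
      _ = x * (s * s) := by rw [this]
  have hd := det_eq s
  rw [h10, mul_zero, sub_zero] at hd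
  have h00 : ent s 0 0 * ent s 0 0 = 1 := by
    have e1 := congrArg (fun y => ent y 0 0) hss
    simp only [ent_mul, h10, mul_zero, add_zero, ent_one_00] at e1
    exact e1
  have h4 : ent s 0 0 = 1 := by
    have h5 : (ent s 0 0 - 1) * (ent s 0 0 - 1) = 0 := by
      linear_combination h00 + (1 - ent s 0 0) * (two_eq (F := F))
    exact sub_eq_zero.1 (mul_self_eq_zero.1 h5)
  rw [h4, one_mul] at hd
  refine ⟨ent s 0 1, fun x => ?_⟩
  have : s = up (ent s 0 1) := by
    refine ext_ent ?_ ?_ ?_ ?_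
    · rw [h4, up_00]
    · rw [up_01]
    · rw [h10, up_10]
    · rw [hd, up_11]
  rw [hs, ← this]

theorem ringAut_involution_unique {σ τ : F ≃+* F} (hσ : σ * σ = 1) (hτ : τ * τ = 1) (hσ1 : σ ≠ 1)
    (hτ1 : τ ≠ 1) : σ = τ := by
  classical
  have : IsCyclic (F ≃+* F) := Cfsg.Agent.LieRecognition.FieldSemilinear.isCyclic_ringAut F
  have : Finite (F ≃+* F) := Finite.of_injective (fun f : F ≃+* F => (f : F → F)) DFunLike.coe_injective
  let _ := Fintype.ofFinite (F ≃+* F)
  by_contra hne
  have h1 := IsCyclic.card_pow_eq_one_le (α := F ≃+* F) (n := 2) (by norm_num)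
  have h3 : ({1, σ, τ} : Finset (F ≃+* F)) ⊆ Finset.univ.filter (fun a => a ^ 2 = 1) := by
    intro x hx
    simp only [Finset.mem_insert, Finset.mem_singleton] at hx
    rw [Finset.mem_filter]
    refine ⟨Finset.mem_univ _, ?_⟩
    rcases hx with rfl | rfl | rfl
    · exact one_pow _
    · rw [sq, hσ]
    · rw [sq, hτ]
  have h4 := Finset.card_le_card h3
  have h5 : ({1, σ, τ} : Finset (F ≃+* F)).card = 3 := by
    rw [Finset.card_insert_of_notMem, Finset.card_insert_of_notMem, Finset.card_singleton]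
    · rw [Finset.mem_singleton]; exact hne
    · simp only [Finset.mem_insert, Finset.mem_singleton, not_or]
      exact ⟨hσ1.symm, hτ1.symm⟩
  omega

/-- the field part of an involution -/
theorem sq_field {α : MulAut SL2} (h2 : ∀ x, α (α x) = x) {s : SL2} {σ : F ≃+* F}
    (h : ∀ x, α x = s * fieldAut σ x * s⁻¹) : σ * σ = 1 := by
  refine field_eq_one (α := 1) isInn_one (s := s * fieldAut σ s) fun x => ?_
  rw [MulAut.one_apply]
  conv_lhs => rw [← h2 x, h (α x), h x]
  rw [map_mul, map_mul, map_mul fieldAut, MulAut.mul_apply, map_inv]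
  group

/-- two non-inner involutory automorphisms differ by an inner one -/
theorem inn_mul {α β : MulAut SL2} (hα : ∀ x, α (α x) = x) (hβ : ∀ x, β (β x) = x) (h1 : ¬ IsInn α)
    (h2 : ¬ IsInn β) : IsInn (α * β) := by
  obtain ⟨s, σ, hs⟩ := exists_form α
  obtain ⟨t, τ, ht⟩ := exists_form β
  have hσ := sq_field hα hs
  have hτ := sq_field hβ ht
  have hσ1 : σ ≠ 1 := by
    rintro rfl
    exact h1 ⟨s, fun x => by rw [hs, fieldAut_one, MulAut.one_apply]⟩
  have hτ1 : τ ≠ 1 := by
    rintro rfl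
    exact h2 ⟨t, fun x => by rw [ht, fieldAut_one, MulAut.one_apply]⟩
  obtain rfl := ringAut_involution_unique hσ hτ hσ1 hτ1
  refine ⟨s * fieldAut σ t, fun x => ?_⟩
  have h3 : fieldAut σ (fieldAut σ x) = x := by
    rw [← MulAut.mul_apply, ← map_mul, hσ, map_one, MulAut.one_apply]
  rw [MulAut.mul_apply, ht, hs, map_mul, map_mul, map_inv, h3]
  group

end fin

/-- `SL(2,F)` is simple -/
theorem eq_top_of_normal [Finite F] (h4 : 4 ≤ Nat.card F) {X : Subgroup SL2} (hX : X.Normal) (hne : X ≠ ⊥) :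
    X = ⊤ := by
  classical
  have : Fintype F := Fintype.ofFinite F
  rw [Nat.card_eq_fintype_card] at h4
  have hc : center SL2 = ⊥ := by
    rw [eq_bot_iff]
    intro s hs
    rw [mem_bot]
    exact eq_one_of_comm fun x => (mem_center_iff.1 hs x).symm
  have hs : IsSimpleGroup (Matrix.ProjectiveSpecialLinearGroup (Fin 2) F) :=
    Cfsg.Agent.TwoFusion.SLTwoFacts.isSimpleGroup_psl h4
  have hn : (X.map (QuotientGroup.mk' (center SL2))).Normal := hX.map _ (QuotientGroup.mk'_surjective _)
  rcases hs.eq_bot_or_eq_top_of_normal _ hn with h | h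
  · exfalso
    apply hne
    rw [Subgroup.map_eq_bot_iff, QuotientGroup.ker_mk', hc] at h
    exact le_bot_iff.1 h
  · rw [eq_top_iff]
    intro x _
    have hx : QuotientGroup.mk' (center SL2) x ∈ X.map (QuotientGroup.mk' (center SL2)) := by rw [h]; trivial
    obtain ⟨y, hy, hxy⟩ := hx
    have h1 : y⁻¹ * x ∈ center SL2 := by
      rw [← QuotientGroup.eq]
      exact hxy
    rw [hc, mem_bot, inv_mul_eq_one] at h1
    rw [← h1]
    exact hy

end Cfsg.Agent.Omega.NO3S.SLTwo
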