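import Mathlib
import Cfsg.Agent.Omega.KM.Bridge

/-!
# NO-3S, `q = 2`, `n = 1`, a component `SL₂(F)` ((A1) of helper881's text #13700): the nonsplit torus

`exists_tor` : there is `r ∈ SL(2,F)` with `r ^ (q + 1) = 1`, inverted by the matrix `(0 1; 1 0)`, such that
`∑_{k ≤ q} r ^ k` kills every irreducible nontrivial `F₂ SL(2,F)`-module.
-/

set_option autoImplicit false
set_option linter.unusedSectionVars false

namespace Cfsg.Agent.Omega.NO3S.SLTwo

open Matrix Finset Cfsg.Agent.Omega.KM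

section root

variable {F : Type*} [Field F] [Fintype F]

/-- elements of an extension fixed by the Frobenius of `F` -/
theorem mem_range_of_pow {K : Type*} [Field K] [Algebra F K] {x : K} (hx : x ^ Fintype.card F = x) :
    ∃ a : F, algebraMap F K a = x := by
  classical
  have hq := Fintype.one_lt_card (α := F)
  have hne : (Polynomial.X ^ Fintype.card F - Polynomial.X : Polynomial K) ≠ 0 :=
    FiniteField.X_pow_card_sub_X_ne_zero K hq
  have hs : (univ.image fun a : F => algebraMap F K a) ⊆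
      (Polynomial.X ^ Fintype.card F - Polynomial.X : Polynomial K).roots.toFinset := by
    intro y hy
    obtain ⟨a, -, rfl⟩ := mem_image.1 hy
    rw [Multiset.mem_toFinset, Polynomial.mem_roots hne, Polynomial.IsRoot.def]
    simp only [Polynomial.eval_sub, Polynomial.eval_pow, Polynomial.eval_X]
    rw [← map_pow, FiniteField.pow_card, sub_self]
  have hc : (Polynomial.X ^ Fintype.card F - Polynomial.X : Polynomial K).roots.toFinset.card ≤
      (univ.image fun a : F => algebraMap F K a).card := by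
    rw [card_image_of_injective _ (algebraMap F K).injective, card_univ]
    refine (Multiset.toFinset_card_le _).trans ((Polynomial.card_roots' _).trans ?_)
    rw [FiniteField.X_pow_card_sub_X_natDegree_eq K hq]
  have he := eq_of_subset_of_card_le hs hc
  have : x ∈ (Polynomial.X ^ Fintype.card F - Polynomial.X : Polynomial K).roots.toFinset := by
    rw [Multiset.mem_toFinset, Polynomial.mem_roots hne, Polynomial.IsRoot.def]
    simp only [Polynomial.eval_sub, Polynomial.eval_pow, Polynomial.eval_X]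
    rw [hx, sub_self]
  rw [← he, mem_image] at this
  obtain ⟨a, -, ha⟩ := this
  exact ⟨a, ha⟩

variable [CharP F 2] {m : ℕ}

/-- a primitive root of unity of order `q + 1` with trace in `F` -/
theorem exists_zeta (hm : Fintype.card F = 2 ^ m) :
    ∃ (ζ : AlgebraicClosure F) (t : F), IsPrimitiveRoot ζ (2 ^ m + 1) ∧
      algebraMap F (AlgebraicClosure F) t = ζ + ζ⁻¹ := by
  have hm0 : m ≠ 0 := by
    rintro rfl
    have := Fintype.one_lt_card (α := F)
    rw [hm] at this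
    simp at this
  have h2 : CharP (AlgebraicClosure F) 2 := charP_of_injective_algebraMap (algebraMap F _).injective 2
  have hne : NeZero ((2 ^ m + 1 : ℕ) : AlgebraicClosure F) := ⟨by
    push_cast
    have : (2 : AlgebraicClosure F) = 0 := CharTwo.two_eq_zero
    rw [this, zero_pow hm0, zero_add]
    exact one_ne_zero⟩
  obtain ⟨ζ, hζ⟩ := HasEnoughRootsOfUnity.exists_primitiveRoot (AlgebraicClosure F) (2 ^ m + 1)
  have hζ0 : ζ ≠ 0 := hζ.ne_zero (by positivity)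
  have h3 : ζ ^ 2 ^ m = ζ⁻¹ := by
    have := hζ.pow_eq_one
    rw [pow_succ] at this
    exact eq_inv_of_mul_eq_one_left this
  obtain ⟨t, ht⟩ := mem_range_of_pow (F := F) (K := AlgebraicClosure F) (x := ζ + ζ⁻¹) (by
    rw [hm, add_pow_char_pow, inv_pow, h3, inv_inv, add_comm])
  exact ⟨ζ, t, hζ, ht⟩

end root

section seq

variable {K : Type*} [Field K] [CharP K 2] {ζ : K} {m : ℕ}

/-- a linear recurrent sequence with eigenvalues `ζ`, `ζ⁻¹` -/
theorem seq_eq (hζ : ζ ≠ 0) (hz : ζ + ζ⁻¹ ≠ 0) (u : ℕ → K) (hu : ∀ k, u (k + 2) = (ζ + ζ⁻¹) * u (k + 1) + u k) :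
    ∃ b c : K, ∀ k, u k = b * ζ ^ k + c * ζ⁻¹ ^ k := by
  have h2 : (2 : K) = 0 := CharTwo.two_eq_zero
  refine ⟨(u 1 + ζ⁻¹ * u 0) / (ζ + ζ⁻¹), (u 1 + ζ * u 0) / (ζ + ζ⁻¹), ?_⟩
  have key : ∀ k, u k = (u 1 + ζ⁻¹ * u 0) / (ζ + ζ⁻¹) * ζ ^ k + (u 1 + ζ * u 0) / (ζ + ζ⁻¹) * ζ⁻¹ ^ k ∧
      u (k + 1) = (u 1 + ζ⁻¹ * u 0) / (ζ + ζ⁻¹) * ζ ^ (k + 1) + (u 1 + ζ * u 0) / (ζ + ζ⁻¹) * ζ⁻¹ ^ (k + 1) := by
    intro k
    induction k with
    | zero =>
      constructor
      · rw [pow_zero, pow_zero, mul_one, mul_one, ← add_div, eq_div_iff hz]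
        linear_combination -(u 1) * h2
      · rw [zero_add, pow_one, pow_one, div_mul_eq_mul_div, div_mul_eq_mul_div, ← add_div, eq_div_iff hz]
        have : ζ⁻¹ * ζ = 1 := inv_mul_cancel₀ hζ
        linear_combination -(u 0) * (ζ * ζ⁻¹) * h2
    | succ k ih =>
      refine ⟨ih.2, ?_⟩
      rw [hu k, ih.1, ih.2]
      have e : ζ * ζ⁻¹ = 1 := mul_inv_cancel₀ hζ
      have e1 : ζ ^ (k + 1 + 1) = (ζ + ζ⁻¹) * ζ ^ (k + 1) + ζ ^ k := by
        rw [pow_succ ζ (k + 1), pow_succ ζ k]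
        linear_combination -(ζ ^ k) * e - ζ ^ k * h2
      have e2 : ζ⁻¹ ^ (k + 1 + 1) = (ζ + ζ⁻¹) * ζ⁻¹ ^ (k + 1) + ζ⁻¹ ^ k := by
        rw [pow_succ ζ⁻¹ (k + 1), pow_succ ζ⁻¹ k]
        linear_combination -(ζ⁻¹ ^ k) * e - ζ⁻¹ ^ k * h2
      rw [e1, e2]
      ring
  exact fun k => (key k).1

/-- the sum of the powers `μ = bits I` of such a sequence over a period -/
theorem sum_seq (hζ : IsPrimitiveRoot ζ (2 ^ m + 1)) {I : Finset ℕ} (hI : I ⊆ range m) (hne : I.Nonempty)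
    (b c : K) : ∑ k ∈ range (2 ^ m + 1), (b * ζ ^ k + c * ζ⁻¹ ^ k) ^ bits I = 0 := by
  have hζ0 : ζ ≠ 0 := hζ.ne_zero (by positivity)
  have h1 : ∀ k, (b * ζ ^ k + c * ζ⁻¹ ^ k) ^ bits I =
      ∑ J ∈ I.powerset, ((b ^ bits J * c ^ bits (I \ J)) * (ζ ^ bits J * ζ⁻¹ ^ bits (I \ J)) ^ k) := by
    intro k
    rw [pow_bits]
    have h2 : ∀ j ∈ I, (b * ζ ^ k + c * ζ⁻¹ ^ k) ^ 2 ^ j = (b * ζ ^ k) ^ 2 ^ j + (c * ζ⁻¹ ^ k) ^ 2 ^ j :=
      fun j _ => add_pow_char_pow _ _ _ _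
    rw [Finset.prod_congr rfl h2, Finset.prod_add]
    refine Finset.sum_congr rfl fun J _ => ?_
    rw [← pow_bits, ← pow_bits, mul_pow, mul_pow, mul_pow, ← pow_mul, ← pow_mul, ← pow_mul, ← pow_mul,
      mul_comm (bits J) k, mul_comm (bits (I \ J)) k]
    ring
  rw [Finset.sum_congr rfl fun k _ => h1 k, Finset.sum_comm]
  refine Finset.sum_eq_zero fun J hJ => ?_
  rw [← Finset.mul_sum]
  refine mul_eq_zero_of_right _ ?_
  have hJI := Finset.mem_powerset.1 hJ
  set η := ζ ^ bits J * ζ⁻¹ ^ bits (I \ J) with hη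
  have hη1 : η ^ (2 ^ m + 1) = 1 := by
    rw [hη, mul_pow, ← pow_mul, ← pow_mul, mul_comm (bits J), mul_comm (bits (I \ J)), pow_mul, pow_mul,
      inv_pow, hζ.pow_eq_one, inv_one, one_pow, one_pow, mul_one]
  have hlt1 := bits_lt (hJI.trans hI)
  have hlt2 := bits_lt ((Finset.sdiff_subset (s := I) (t := J)).trans hI)
  have hne' : bits J ≠ bits (I \ J) := by
    intro e
    have e' := bits_injective e
    obtain ⟨i, hi⟩ := hne
    by_cases hiJ : i ∈ J
    · have := hiJ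
      rw [e', Finset.mem_sdiff] at this
      exact this.2 hiJ
    · exact hiJ (by rw [e']; exact Finset.mem_sdiff.2 ⟨hi, hiJ⟩)
  have hη2 : η ≠ 1 := by
    intro e
    rw [hη, inv_pow, mul_inv_eq_one₀ (pow_ne_zero _ hζ0)] at e
    exact hne' (hζ.pow_inj (by omega) (by omega) e)
  have h3 := geom_sum_mul η (2 ^ m + 1)
  rw [hη1, sub_self] at h3
  exact (mul_eq_zero.1 h3).resolve_right (sub_ne_zero.2 hη2)

end seq

section tor

variable {F : Type*} [Field F] [Fintype F] [CharP F 2] {m : ℕ}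

/-- the companion matrix of `X² - t X + 1` -/
def tor (t : F) : SpecialLinearGroup (Fin 2) F :=
  ⟨!![0, 1; 1, t], by rw [det_fin_two_of]; simpa using CharTwo.neg_eq (1 : F)⟩

theorem tor_sq (t : F) : (tor t).1 * (tor t).1 = t • (tor t).1 + 1 := by
  ext i j
  fin_cases i <;> fin_cases j <;> simp [tor, Matrix.mul_apply, Fin.sum_univ_two]
  ring

theorem ww_tor (t : F) : (ww : SpecialLinearGroup (Fin 2) F) * tor t * ww = (tor t)⁻¹ := by
  refine eq_inv_of_mul_eq_one_left (Subtype.ext ?_)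
  change (!![0, 1; 1, 0] : Matrix (Fin 2) (Fin 2) F) * !![0, 1; 1, t] * !![0, 1; 1, 0] * !![0, 1; 1, t] = 1
  ext i j
  fin_cases i <;> fin_cases j <;>
    simp [Matrix.mul_apply, Fin.sum_univ_two, CharTwo.add_self_eq_zero]

/-- the nonsplit torus kills the forms -/
theorem exists_tor (hm : Fintype.card F = 2 ^ m) : ∃ t : F, tor t ^ (2 ^ m + 1) = 1 ∧
    ∀ I ⊆ range m, I.Nonempty → ∀ a : F × F,
      ∑ k ∈ range (2 ^ m + 1), act (tor t ^ k) (linp (bits I) a) = 0 := by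
  obtain ⟨ζ, t, hζ, ht⟩ := exists_zeta hm
  have hm0 : m ≠ 0 := by
    rintro rfl
    have := Fintype.one_lt_card (α := F)
    rw [hm] at this
    simp at this
  have hζ0 : ζ ≠ 0 := hζ.ne_zero (by positivity)
  have hchar : CharP (AlgebraicClosure F) 2 := charP_of_injective_algebraMap (algebraMap F _).injective 2
  have hz : ζ + ζ⁻¹ ≠ 0 := by
    intro e
    have e1 : ζ = ζ⁻¹ := CharTwo.add_eq_zero.1 e
    have e2 : ζ ^ 2 = 1 := by
      rw [pow_two]
      nth_rewrite 2 [e1]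
      exact mul_inv_cancel₀ hζ0
    have h3 := hζ.dvd_of_pow_eq_one 2 e2
    have h4 := Nat.le_of_dvd (by norm_num) h3
    have h5 : 2 ^ 1 ≤ 2 ^ m := Nat.pow_le_pow_right (by norm_num) (Nat.one_le_iff_ne_zero.2 hm0)
    omega
  -- linear forms along the powers
  have key : ∀ (a : F × F) (v : Fin 2 → F), ∃ b c : AlgebraicClosure F, ∀ k : ℕ,
      algebraMap F (AlgebraicClosure F) (a.1 * (v ᵥ* (tor t ^ k).1) 0 + a.2 * (v ᵥ* (tor t ^ k).1) 1) =
        b * ζ ^ k + c * ζ⁻¹ ^ k := by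
    intro a v
    refine seq_eq hζ0 hz (fun k => algebraMap F (AlgebraicClosure F)
      (a.1 * (v ᵥ* (tor t ^ k).1) 0 + a.2 * (v ᵥ* (tor t ^ k).1) 1)) fun k => ?_
    have h1 : (tor t ^ (k + 2)).1 = t • (tor t ^ (k + 1)).1 + (tor t ^ k).1 := by
      rw [pow_succ (tor t) (k + 1), pow_succ (tor t) k]
      change (tor t ^ k).1 * (tor t).1 * (tor t).1 = t • ((tor t ^ k).1 * (tor t).1) + (tor t ^ k).1
      rw [Matrix.mul_assoc, tor_sq, Matrix.mul_add, Matrix.mul_one, Matrix.mul_smul]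
    have h2 : v ᵥ* (tor t ^ (k + 2)).1 = t • (v ᵥ* (tor t ^ (k + 1)).1) + v ᵥ* (tor t ^ k).1 := by
      rw [h1, Matrix.vecMul_add, Matrix.vecMul_smul]
    change algebraMap F _ (a.1 * (v ᵥ* (tor t ^ (k + 2)).1) 0 + a.2 * (v ᵥ* (tor t ^ (k + 2)).1) 1) =
      (ζ + ζ⁻¹) * algebraMap F _ (a.1 * (v ᵥ* (tor t ^ (k + 1)).1) 0 + a.2 * (v ᵥ* (tor t ^ (k + 1)).1) 1) +
      algebraMap F _ (a.1 * (v ᵥ* (tor t ^ k).1) 0 + a.2 * (v ᵥ* (tor t ^ k).1) 1)
    rw [h2, ← ht, ← map_mul, ← map_add]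
    congr 1
    simp only [Pi.add_apply, Pi.smul_apply, smul_eq_mul]
    ring
  refine ⟨t, ?_, fun I hI hne a => ?_⟩
  · -- the order
    have h1 : ∀ (a : F × F) (v : Fin 2 → F),
        a.1 * (v ᵥ* (tor t ^ (2 ^ m + 1)).1) 0 + a.2 * (v ᵥ* (tor t ^ (2 ^ m + 1)).1) 1 = a.1 * v 0 + a.2 * v 1 := by
      intro a v
      obtain ⟨b, c, hbc⟩ := key a v
      apply (algebraMap F (AlgebraicClosure F)).injective
      rw [hbc]
      have h0 := hbc 0
      rw [pow_zero, pow_zero, pow_zero, mul_one, mul_one] at h0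
      rw [inv_pow, hζ.pow_eq_one, inv_one, mul_one, mul_one, ← h0]
      simp
    apply Subtype.ext
    ext i j
    have h2 := h1 (1, 0) (Pi.single i 1)
    have h3 := h1 (0, 1) (Pi.single i 1)
    simp only [one_mul, zero_mul, add_zero, zero_add, Matrix.single_one_vecMul, Matrix.row_apply] at h2 h3
    change (tor t ^ (2 ^ m + 1)).1 i j = (1 : Matrix (Fin 2) (Fin 2) F) i j
    fin_cases j
    · change (tor t ^ (2 ^ m + 1)).1 i 0 = (1 : Matrix (Fin 2) (Fin 2) F) i 0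
      rw [h2, Matrix.one_apply, Pi.single_apply]
      exact if_congr eq_comm rfl rfl
    · change (tor t ^ (2 ^ m + 1)).1 i 1 = (1 : Matrix (Fin 2) (Fin 2) F) i 1
      rw [h3, Matrix.one_apply, Pi.single_apply]
      exact if_congr eq_comm rfl rfl
  · funext v
    obtain ⟨b, c, hbc⟩ := key a v
    apply (algebraMap F (AlgebraicClosure F)).injective
    rw [Finset.sum_apply, map_sum]
    have h1 : ∀ k, algebraMap F (AlgebraicClosure F) (act (tor t ^ k) (linp (bits I) a) v) =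
        (b * ζ ^ k + c * ζ⁻¹ ^ k) ^ bits I := by
      intro k
      rw [act_apply]
      change algebraMap F _ ((a.1 * (v ᵥ* (tor t ^ k).1) 0 + a.2 * (v ᵥ* (tor t ^ k).1) 1) ^ bits I) = _
      rw [map_pow, hbc]
    rw [Finset.sum_congr rfl fun k _ => h1 k, sum_seq hζ hI hne, Pi.zero_apply, map_zero]

end tor

section mod

variable {F : Type*} [Field F] [Fintype F] [CharP F 2] {m : ℕ}

/-- the nonsplit torus kills every irreducible nontrivial `F₂ SL(2,F)`-module -/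
theorem exists_tor_mod (hm : Fintype.card F = 2 ^ m) : ∃ t : F, tor t ^ (2 ^ m + 1) = 1 ∧
    ∀ {V : Type*} [AddCommGroup V] [Nontrivial V], (∀ v : V, v + v = 0) →
      ∀ ρ : SpecialLinearGroup (Fin 2) F →* AddMonoid.End V,
        (∀ W : AddSubgroup V, (∀ g, ∀ w ∈ W, ρ g w ∈ W) → W = ⊥ ∨ W = ⊤) → (∃ g v, ρ g v ≠ v) →
          ∀ v, ∑ k ∈ range (2 ^ m + 1), ρ (tor t ^ k) v = 0 := by
  obtain ⟨t, ht, hsum⟩ := exists_tor hm
  refine ⟨t, ht, ?_⟩
  intro V _ _ h2 ρ hirr hnt v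
  obtain ⟨I, hI, hne, Ψ, hinj, heq, hrange⟩ := f2 hm h2 ρ hirr hnt
  apply hinj
  rw [map_sum, map_zero]
  rw [Finset.sum_congr rfl fun k _ => heq _ _]
  have hv : Ψ v ∈ AddSubgroup.closure (Set.range (linp (F := F) (bits I))) := by
    rw [← hrange]; exact ⟨v, rfl⟩
  generalize Ψ v = f at hv
  induction hv using AddSubgroup.closure_induction with
  | mem f hf =>
    obtain ⟨a, rfl⟩ := hf
    exact hsum I hI hne a
  | zero => simp
  | add f g _ _ hf hg =>
    rw [Finset.sum_congr rfl fun k _ => map_add _ _ _, Finset.sum_add_distrib, hf, hg, add_zero]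
  | neg f _ hf =>
    rw [Finset.sum_congr rfl fun k _ => map_neg _ _, Finset.sum_neg_distrib, hf, neg_zero]

end mod

end Cfsg.Agent.Omega.NO3S.SLTwo
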