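import Mathlib
import Cfsg.Agent.Omega.NO3S.SLTwo.Tor
import Cfsg.Agent.Omega.NO3S.SLTwo.Aut

/-!
# NO-3S, `q = 2`, `n = 1`, a component `SL₂(F)`: modules of groups with a normal subgroup `SL(2,F)`

`H` acts irreducibly on the elementary abelian 2-group `N`, `ι : SL(2,F) → H` with normal image acting nontrivially.

* `Inv ι X` : `X` is `SL(2,F)`-invariant, `Mn ι Y` : minimal invariant; `exists_mn`, `mn_span` (Clifford);
* `trace_zero` : `∑_k (tor t)^k = 0` on `N`;
* `card_le_sq` : `|N| ≤ |N : C_N(a)|²` if `a` acts on `SL(2,F)` as a conjugate of an involution.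
-/

set_option autoImplicit false
set_option linter.unusedSectionVars false

namespace Cfsg.Agent.Omega.NO3S.SLTwo

open Matrix Subgroup Cfsg.Agent.Lib.SL2Mat Cfsg.Agent.Lib.AutSL2 Cfsg.Agent.Lib.AutSL2Out
open Cfsg.Agent.Omega.KM (ww)

variable {F : Type*} [Field F]

local notation "SL2" => Matrix.SpecialLinearGroup (Fin 2) F

section defs

variable {H N : Type*} [Group H] [AddCommGroup N] [DistribMulAction H N]

/-- the fixed points of `a` -/
def fixN (N : Type*) [AddCommGroup N] {H : Type*} [Group H] [DistribMulAction H N] (a : H) : AddSubgroup N where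
  carrier := {n | a • n = n}
  add_mem' {x y} hx hy := by
    change a • (x + y) = x + y
    rw [smul_add, show a • x = x from hx, show a • y = y from hy]
  zero_mem' := smul_zero a
  neg_mem' {x} hx := by
    change a • (-x) = -x
    rw [smul_neg, show a • x = x from hx]

theorem mem_fixN {a : H} {n : N} : n ∈ fixN N a ↔ a • n = n := Iff.rfl

variable (ι : Matrix.SpecialLinearGroup (Fin 2) F →* H)

/-- `SL(2,F)`-invariant -/
def Inv (X : AddSubgroup N) : Prop := ∀ g : SL2, ∀ x ∈ X, ι g • x ∈ X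

/-- minimal `SL(2,F)`-invariant -/
structure Mn (Y : AddSubgroup N) : Prop where
  inv : Inv ι Y
  ne : Y ≠ ⊥
  min : ∀ X : AddSubgroup N, Inv ι X → X ≤ Y → X = ⊥ ∨ X = Y

variable {ι}

theorem exists_mn [Finite N] {X : AddSubgroup N} (hX : Inv ι X) (hne : X ≠ ⊥) : ∃ Y ≤ X, Mn ι Y := by
  obtain ⟨Y, ⟨hY1, hY2, hY3⟩, hmin⟩ := (wellFounded_lt (α := AddSubgroup N)).has_min
    {Y | Inv ι Y ∧ Y ≠ ⊥ ∧ Y ≤ X} ⟨X, hX, hne, le_rfl⟩
  refine ⟨Y, hY3, hY1, hY2, fun Z hZ hZY => ?_⟩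
  by_contra hcon
  push Not at hcon
  exact hmin Z ⟨hZ, hcon.1, hZY.trans hY3⟩ (lt_of_le_of_ne hZY hcon.2)

/-- translate of a subgroup -/
def tr (h : H) (Y : AddSubgroup N) : AddSubgroup N := Y.map (DistribSMul.toAddMonoidHom N h)

theorem mem_tr {h : H} {Y : AddSubgroup N} {n : N} : n ∈ tr h Y ↔ h⁻¹ • n ∈ Y := by
  constructor
  · rintro ⟨y, hy, rfl⟩
    change h⁻¹ • h • y ∈ Y
    rwa [inv_smul_smul]
  · intro hn
    exact ⟨h⁻¹ • n, hn, smul_inv_smul h n⟩

theorem tr_tr (g h : H) (Y : AddSubgroup N) : tr g (tr h Y) = tr (g * h) Y := by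
  ext n
  rw [mem_tr, mem_tr, mem_tr, _root_.mul_inv_rev, mul_smul]

theorem tr_one (Y : AddSubgroup N) : tr (1 : H) Y = Y := by
  ext n
  rw [mem_tr, inv_one, one_smul]

theorem tr_mono {h : H} {X Y : AddSubgroup N} (hXY : X ≤ Y) : tr h X ≤ tr h Y := fun _ hn =>
  mem_tr.2 (hXY (mem_tr.1 hn))

theorem tr_bot (h : H) : tr h (⊥ : AddSubgroup N) = ⊥ := by
  ext n
  rw [mem_tr, AddSubgroup.mem_bot, AddSubgroup.mem_bot]
  exact smul_eq_zero_iff_eq h⁻¹

theorem card_tr (h : H) (Y : AddSubgroup N) : Nat.card (tr h Y) = Nat.card Y :=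
  (Nat.card_congr (Y.equivMapOfInjective (DistribSMul.toAddMonoidHom N h) (MulAction.injective h)).toEquiv).symm

theorem inv_tr (hn : ι.range.Normal) {Y : AddSubgroup N} (hY : Inv ι Y) (h : H) : Inv ι (tr h Y) := by
  intro g n hnn
  rw [mem_tr] at *
  obtain ⟨g', hg'⟩ := hn.conj_mem (ι g) ⟨g, rfl⟩ h⁻¹
  rw [inv_inv] at hg'
  have := hY g' _ hnn
  rw [hg', ← mul_smul] at this
  rw [← mul_smul]
  have e : h⁻¹ * ι g * h * h⁻¹ = h⁻¹ * ι g := by group
  rwa [e] at this

theorem mn_tr (hn : ι.range.Normal) {Y : AddSubgroup N} (hY : Mn ι Y) (h : H) : Mn ι (tr h Y) where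
  inv := inv_tr hn hY.inv h
  ne := fun e => hY.ne (by
    have := congrArg (tr h⁻¹) e
    rwa [tr_tr, inv_mul_cancel, tr_one, tr_bot] at this)
  min := fun X hX hXY => by
    have h1 : tr h⁻¹ X ≤ Y := by
      have := tr_mono (h := h⁻¹) hXY
      rwa [tr_tr, inv_mul_cancel, tr_one] at this
    rcases hY.min _ (inv_tr hn hX h⁻¹) h1 with e | e
    · left
      have := congrArg (tr h) e
      rwa [tr_tr, mul_inv_cancel, tr_one, tr_bot] at this
    · right
      have := congrArg (tr h) e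
      rwa [tr_tr, mul_inv_cancel, tr_one] at this

/-- Clifford -/
theorem mn_span
    (irr : ∀ X : AddSubgroup N, (∀ h : H, ∀ x ∈ X, h • x ∈ X) → X = ⊥ ∨ X = ⊤) {Y : AddSubgroup N}
    (hY : Mn ι Y) : ⨆ h : H, tr h Y = ⊤ := by
  refine (irr _ fun g x hx => ?_).resolve_left fun e => hY.ne ?_
  · have h1 : tr g (⨆ h : H, tr h Y) ≤ ⨆ h : H, tr h Y := by
      unfold tr
      rw [AddSubgroup.map_iSup]
      refine iSup_le fun h => ?_
      have := tr_tr g h Y
      unfold tr at this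
      rw [this]
      exact le_iSup (fun h : H => Y.map (DistribSMul.toAddMonoidHom N h)) (g * h)
    apply h1
    rw [mem_tr, inv_smul_smul]
    exact hx
  · have h1 : tr (1 : H) Y ≤ ⨆ h : H, tr h Y := le_iSup (fun h : H => tr h Y) 1
    rw [e, tr_one] at h1
    exact le_bot_iff.1 h1

/-- `C_N(SL(2,F)) = 0` -/
theorem fix_eq_zero (hn : ι.range.Normal)
    (irr : ∀ X : AddSubgroup N, (∀ h : H, ∀ x ∈ X, h • x ∈ X) → X = ⊥ ∨ X = ⊤)
    (hnt : ∃ g : SL2, ∃ n : N, ι g • n ≠ n) {n : N} (h : ∀ g : SL2, ι g • n = n) : n = 0 := by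
  let C : AddSubgroup N :=
    { carrier := {n | ∀ g : SL2, ι g • n = n}
      add_mem' := fun {x y} hx hy g => by rw [smul_add, hx g, hy g]
      zero_mem' := fun g => smul_zero _
      neg_mem' := fun {x} hx g => by rw [smul_neg, hx g] }
  rcases irr C (fun h x hx g => by
    obtain ⟨g', hg'⟩ := hn.conj_mem (ι g) ⟨g, rfl⟩ h⁻¹
    rw [inv_inv] at hg'
    have h1 := hx g'
    rw [hg'] at h1
    rw [← mul_smul]
    calc (ι g * h) • x = h • ((h⁻¹ * ι g * h) • x) := by rw [← mul_smul]; congr 1; group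
      _ = h • x := by rw [h1]) with e | e
  · have : n ∈ C := h
    rwa [e, AddSubgroup.mem_bot] at this
  · exfalso
    obtain ⟨g, m, hm⟩ := hnt
    have : m ∈ C := by rw [e]; trivial
    exact hm (this g)

/-- the action on an invariant subgroup -/
def res {Y : AddSubgroup N} (hY : Inv ι Y) : SL2 →* AddMonoid.End Y where
  toFun g :=
    { toFun := fun y => ⟨ι g • (y : N), hY g y y.2⟩
      map_zero' := Subtype.ext (smul_zero _)
      map_add' := fun x y => Subtype.ext (smul_add _ _ _) }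
  map_one' := by
    ext y
    change ι 1 • (y : N) = y
    rw [map_one, one_smul]
  map_mul' g h := by
    ext y
    change ι (g * h) • (y : N) = ι g • (ι h • (y : N))
    rw [map_mul, mul_smul]

theorem res_apply {Y : AddSubgroup N} (hY : Inv ι Y) (g : SL2) (y : Y) : ((res hY g y : Y) : N) = ι g • (y : N) := rfl

theorem res_irr {Y : AddSubgroup N} (hY : Mn ι Y) (W : AddSubgroup Y) (hW : ∀ g, ∀ w ∈ W, res hY.inv g w ∈ W) :
    W = ⊥ ∨ W = ⊤ := by
  have h1 : Inv ι (W.map Y.subtype) := by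
    rintro g _ ⟨w, hw, rfl⟩
    exact ⟨res hY.inv g w, hW g w hw, rfl⟩
  have h2 : W.map Y.subtype ≤ Y := by
    rintro _ ⟨w, -, rfl⟩
    exact w.2
  rcases hY.min _ h1 h2 with e | e
  · left
    rw [AddSubgroup.map_eq_bot_iff_of_injective] at e
    · exact e
    · exact Subtype.val_injective
  · right
    rw [eq_top_iff]
    intro y _
    have : (y : N) ∈ W.map Y.subtype := by rw [e]; exact y.2
    obtain ⟨w, hw, hwy⟩ := this
    rwa [← Subtype.ext hwy]

theorem mn_nontrivial {Y : AddSubgroup N} (hY : Mn ι Y) : Nontrivial Y := by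
  rcases subsingleton_or_nontrivial Y with h | h
  · refine absurd ?_ hY.ne
    rw [AddSubgroup.eq_bot_iff_forall]
    intro x hx
    exact congrArg Subtype.val (Subsingleton.elim (⟨x, hx⟩ : Y) 0)
  · exact h

end defs

section trace

variable {H : Type*} {N : Type*} [Group H] [AddCommGroup N] [DistribMulAction H N]
  {ι : Matrix.SpecialLinearGroup (Fin 2) F →* H} [Fintype F] [CharP F 2] {m : ℕ}

/-- `∑_k (tor t)^k = 0` on `N`. -/
theorem trace_zero [Finite N] (hm : Fintype.card F = 2 ^ m) (h2 : ∀ n : N, n + n = 0) (hn : ι.range.Normal)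
    (irr : ∀ X : AddSubgroup N, (∀ h : H, ∀ x ∈ X, h • x ∈ X) → X = ⊥ ∨ X = ⊤)
    (hnt : ∃ g : SL2, ∃ n : N, ι g • n ≠ n) :
    ∃ t : F, tor t ^ (2 ^ m + 1) = 1 ∧ ∀ n : N, ∑ k ∈ Finset.range (2 ^ m + 1), ι (tor t ^ k) • n = 0 := by
  obtain ⟨t, ht, hsum⟩ := exists_tor_mod hm
  refine ⟨t, ht, ?_⟩
  let τ : N →+ N := ∑ k ∈ Finset.range (2 ^ m + 1), DistribSMul.toAddMonoidHom N (ι (tor t ^ k))
  have hτ : ∀ n, τ n = ∑ k ∈ Finset.range (2 ^ m + 1), ι (tor t ^ k) • n := fun n => by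
    change (∑ k ∈ Finset.range (2 ^ m + 1), DistribSMul.toAddMonoidHom N (ι (tor t ^ k))) n = _
    rw [AddMonoidHom.finsetSum_apply]
    rfl
  have hne : (⊤ : AddSubgroup N) ≠ ⊥ := by
    obtain ⟨g, n, hgn⟩ := hnt
    intro e
    have h1 : n ∈ (⊥ : AddSubgroup N) := by rw [← e]; trivial
    rw [AddSubgroup.mem_bot] at h1
    rw [h1, smul_zero] at hgn
    exact hgn rfl
  obtain ⟨Y, -, hY⟩ := exists_mn (ι := ι) (X := (⊤ : AddSubgroup N)) (fun _ _ _ => trivial) hne
  have h1 : ∀ Z : AddSubgroup N, Mn ι Z → Z ≤ τ.ker := by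
    intro Z hZ z hz
    have : Nontrivial Z := mn_nontrivial hZ
    have h3 := hsum (V := Z) (fun v => Subtype.ext (h2 v)) (res hZ.inv) (res_irr hZ) (by
      by_contra hcon
      push Not at hcon
      apply hZ.ne
      rw [AddSubgroup.eq_bot_iff_forall]
      intro x hx
      exact fix_eq_zero hn irr hnt fun g => congrArg Subtype.val (hcon g ⟨x, hx⟩)) ⟨z, hz⟩
    rw [AddMonoidHom.mem_ker, hτ]
    have h4 := congrArg Subtype.val h3
    rw [AddSubgroup.val_finsetSum] at h4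
    exact h4
  have h5 : (⊤ : AddSubgroup N) ≤ τ.ker := by
    rw [← mn_span irr hY]
    exact iSup_le fun h => h1 _ (mn_tr hn hY h)
  intro n
  rw [← hτ]
  exact h5 trivial

/-- every `up b`, `b ≠ 0`, inverts an element which generates a nonsplit torus -/
theorem exists_inverted {t : F} (ht : tor t ^ (2 ^ m + 1) = 1)
    (hs : ∀ n : N, ∑ k ∈ Finset.range (2 ^ m + 1), ι (tor t ^ k) • n = 0) {b : F} (hb : b ≠ 0) :
    ∃ r : SL2, r ^ (2 ^ m + 1) = 1 ∧ up b * r * (up b)⁻¹ = r⁻¹ ∧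
      ∀ n : N, ∑ k ∈ Finset.range (2 ^ m + 1), ι (r ^ k) • n = 0 := by
  obtain ⟨s, hs'⟩ := FiniteField.isSquare_of_char_two (F := F) (ringChar.eq F 2).symm.symm b
  have hs0 : s ≠ 0 := by
    rintro rfl
    exact hb (by rw [hs', mul_zero])
  have hww : (ww : SL2) * ww = 1 := by
    apply Subtype.ext
    change (!![0, 1; 1, 0] : Matrix (Fin 2) (Fin 2) F) * !![0, 1; 1, 0] = 1
    ext i j
    fin_cases i <;> fin_cases j <;> simp [Matrix.mul_apply, Fin.sum_univ_two]
  have h1 : (up 1 : SL2) = lo 1 * ww * lo 1 := by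
    apply Subtype.ext
    change (!![1, 1; 0, 1] : Matrix (Fin 2) (Fin 2) F) = !![1, 0; 1, 1] * !![0, 1; 1, 0] * !![1, 0; 1, 1]
    ext i j
    fin_cases i <;> fin_cases j <;> simp [Matrix.mul_apply, Fin.sum_univ_two, CharTwo.add_self_eq_zero]
  have hlo : (lo 1 : SL2)⁻¹ = lo 1 := by rw [lo_inv, CharTwo.neg_eq]
  have h2 : up b = dg s hs0 * lo 1 * ww * (dg s hs0 * lo 1)⁻¹ := by
    have e1 : up b = dg s hs0 * up 1 * (dg s hs0)⁻¹ := by
      rw [dg_up, mul_one, mul_inv_cancel_right, pow_two, hs']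
    rw [e1, h1, _root_.mul_inv_rev, hlo]
    group
  set x := dg s hs0 * lo 1 with hx
  have hpow : ∀ k : ℕ, (x * tor t * x⁻¹) ^ k = x * tor t ^ k * x⁻¹ := fun k => conj_pow
  refine ⟨x * tor t * x⁻¹, ?_, ?_, fun n => ?_⟩
  · rw [hpow, ht, mul_one, mul_inv_cancel]
  · rw [h2]
    have h3 := ww_tor t
    have h4 : (ww : SL2)⁻¹ = ww := inv_eq_of_mul_eq_one_left hww
    calc x * ww * x⁻¹ * (x * tor t * x⁻¹) * (x * ww * x⁻¹)⁻¹ = x * (ww * tor t * ww⁻¹) * x⁻¹ := by group
      _ = x * (tor t)⁻¹ * x⁻¹ := by rw [h4, h3]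
      _ = (x * tor t * x⁻¹)⁻¹ := by group
  · have h5 : ∀ k, ι ((x * tor t * x⁻¹) ^ k) • n = ι x • (ι (tor t ^ k) • (ι x⁻¹ • n)) := fun k => by
      rw [hpow, map_mul, map_mul, mul_smul, mul_smul]
    rw [Finset.sum_congr rfl fun k _ => h5 k, ← Finset.smul_sum, hs, smul_zero]

/-- `|N| ≤ |N : C_N(a)|²` if `a` acts on `SL(2,F)` as an involution of `U` -/
theorem card_le_sq [Finite N] (hm : Fintype.card F = 2 ^ m) (h2 : ∀ n : N, n + n = 0) {t : F}
    (ht : tor t ^ (2 ^ m + 1) = 1)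
    (hs : ∀ n : N, ∑ k ∈ Finset.range (2 ^ m + 1), ι (tor t ^ k) • n = 0) {b : F} (hb : b ≠ 0) {a : H}
    (ha : ∀ g, a * ι g * a⁻¹ = ι (up b * g * (up b)⁻¹)) : Nat.card N ≤ (fixN N a).index ^ 2 := by
  obtain ⟨r, hr1, hr2, hr3⟩ := exists_inverted ht hs hb
  have hm0 : m ≠ 0 := by
    rintro rfl
    have := Fintype.one_lt_card (α := F)
    rw [hm] at this
    simp at this
  -- `C ∩ C^r = 0`
  have key : ∀ n : N, n ∈ fixN N a → n ∈ tr (ι r) (fixN N a) → n = 0 := by
    intro n h3 h4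
    rw [mem_tr, mem_fixN] at h4
    rw [mem_fixN] at h3
    have h5 : (ι r)⁻¹ • n = ι r • n := by
      have e1 : a * (ι r)⁻¹ * a⁻¹ = ι r := by
        have := ha r
        rw [hr2, map_inv] at this
        calc a * (ι r)⁻¹ * a⁻¹ = (a * ι r * a⁻¹)⁻¹ := by group
          _ = ι r := by rw [this, inv_inv]
      calc (ι r)⁻¹ • n = a • (ι r)⁻¹ • n := h4.symm
        _ = (a * (ι r)⁻¹ * a⁻¹) • (a • n) := by rw [← mul_smul, ← mul_smul]; congr 1; group
        _ = ι r • n := by rw [e1, h3]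
    have h6 : (ι r * ι r) • n = n := by
      rw [mul_smul, ← h5, smul_inv_smul]
    have h7 : ι r • n = n := by
      have h8 : ∀ k : ℕ, (ι r) ^ (2 * k) • n = n := by
        intro k
        induction k with
        | zero => rw [mul_zero, pow_zero, one_smul]
        | succ k ih => rw [show 2 * (k + 1) = 2 * k + 2 by ring, pow_add, mul_smul, pow_two, h6, ih]
      have h9 : (ι r) ^ (2 ^ m + 1) = 1 := by rw [← map_pow, hr1, map_one]
      obtain ⟨k, hk⟩ := Nat.exists_eq_succ_of_ne_zero hm0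
      have h10 : (ι r) ^ (2 ^ m) • n = n := by
        rw [hk, pow_succ, mul_comm]
        exact h8 _
      have h11 : (ι r) ^ (2 ^ m + 1) • n = ι r • ((ι r) ^ (2 ^ m) • n) := by rw [pow_succ', mul_smul]
      rw [h9, one_smul, h10] at h11
      exact h11.symm
    have h8 : ∀ k : ℕ, ι (r ^ k) • n = n := by
      intro k
      induction k with
      | zero => rw [pow_zero, map_one, one_smul]
      | succ k ih => rw [pow_succ, map_mul, mul_smul, h7, ih]
    have h9 := hr3 n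
    rw [Finset.sum_congr rfl fun k _ => h8 k, Finset.sum_const, Finset.card_range, succ_nsmul] at h9
    obtain ⟨k, hk⟩ := Nat.exists_eq_succ_of_ne_zero hm0
    have h10 : 2 ^ m • n = 0 := by
      rw [hk, pow_succ, mul_comm, mul_nsmul, two_nsmul, h2, nsmul_zero]
    rwa [h10, zero_add] at h9
  have h3 : Nat.card (tr (ι r) (fixN N a)) ≤ (fixN N a).index := by
    refine Nat.card_le_card_of_injective
      (fun x : tr (ι r) (fixN N a) => (QuotientAddGroup.mk (x : N) : N ⧸ fixN N a)) ?_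
    intro x y hxy
    have h4 := QuotientAddGroup.eq.1 hxy
    have h5 := key _ h4 (add_mem (neg_mem x.2) y.2)
    exact Subtype.ext (neg_add_eq_zero.1 h5)
  rw [card_tr] at h3
  rw [← AddSubgroup.card_mul_index (fixN N a), pow_two]
  exact Nat.mul_le_mul_right _ h3

end trace

end Cfsg.Agent.Omega.NO3S.SLTwo
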