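import Mathlib
import Cfsg.Agent.Omega.NO3S.SLTwo.Mod
import Cfsg.Agent.Omega.KM.Explicit

/-!
# NO-3S, `q = 2`, `n = 1`, a component `SL₂(F)`: the module configuration of (A1) of helper881's text #13700

`Cfg ι N T A v0` : `H` acts faithfully and irreducibly on `N`, `ι : SL(2,F) → H` injective with normal image, `A` a quadratic
elementary abelian group normal in `T`, `|N : C_N(a)| ≤ 2|A|`, `A` normalised by the odd elements of `SL(2,F)` fixing `v0`.

* `card_A` : `|A| ≤ |F|`; `card_N` : `|N| ≤ 4|F|²`; `mn_top` : `N` is irreducible for `SL(2,F)`;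
* `mem_up` : the elements of `A` which act on `SL(2,F)` as inner automorphisms lie in `ι(U)`.
-/

set_option autoImplicit false
set_option linter.unusedSectionVars false

namespace Cfsg.Agent.Omega.NO3S.SLTwo

open Matrix Subgroup Cfsg.Agent.Lib.SL2Mat Cfsg.Agent.Lib.AutSL2 Cfsg.Agent.Lib.AutSL2Out
open Cfsg.Agent.Omega.KM (ww IsIrr km_lt)

variable {F : Type*} [Field F]

local notation "SL2" => Matrix.SpecialLinearGroup (Fin 2) F

/-- the configuration -/
structure Cfg {F : Type*} [Field F] {H : Type*} [Group H] (ι : Matrix.SpecialLinearGroup (Fin 2) F →* H) (N : Type*)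
    [AddCommGroup N] [DistribMulAction H N] (T A : Subgroup H) (v0 : N) : Prop where
  inj : Function.Injective ι
  normal : ι.range.Normal
  two : ∀ n : N, n + n = 0
  irr : ∀ X : AddSubgroup N, (∀ h : H, ∀ x ∈ X, h • x ∈ X) → X = ⊥ ∨ X = ⊤
  up_mem : ∀ b, ι (up b) ∈ T
  of_mem : ∀ g, ι g ∈ T → ∃ b, g = up b
  le : A ≤ T
  T_norm : ∀ t ∈ T, ∀ a ∈ A, t * a * t⁻¹ ∈ A
  sq : ∀ a ∈ A, a * a = 1
  quad : ∀ a ∈ A, ∀ b ∈ A, ∀ n : N, a • (b • n - n) = b • n - n
  small : ∀ a ∈ A, a ≠ 1 → (fixN N a).index ≤ 2 * Nat.card A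
  nc : ∃ a ∈ A, ∃ g, a * ι g ≠ ι g * a
  v_ne : v0 ≠ 0
  v_fix : ∀ b, ι (up b) • v0 = v0
  odd_norm : ∀ g : Matrix.SpecialLinearGroup (Fin 2) F, Odd (orderOf g) → ι g • v0 = v0 →
    ∀ a ∈ A, ι g * a * (ι g)⁻¹ ∈ A

section aut

variable {H : Type*} [Group H] {ι : Matrix.SpecialLinearGroup (Fin 2) F →* H}

/-- the automorphism of `SL(2,F)` induced by `h` -/
theorem exists_aut (hi : Function.Injective ι) (hn : ι.range.Normal) (h : H) :
    ∃ α : MulAut SL2, ∀ g, ι (α g) = h * ι g * h⁻¹ := by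
  let e : SL2 ≃* ι.range := MonoidHom.ofInjective hi
  refine ⟨(e.trans (MulAut.conjNormal h)).trans e.symm, fun g => ?_⟩
  have h1 : ∀ y : ι.range, ι (e.symm y) = y := fun y => by
    have := congrArg Subtype.val (e.apply_symm_apply y)
    exact this
  change ι (e.symm (MulAut.conjNormal h (e g))) = _
  rw [h1, MulAut.conjNormal_apply]
  rfl

/-- the elements which act on `SL(2,F)` as inner automorphisms -/
def innH (ι : Matrix.SpecialLinearGroup (Fin 2) F →* H) : Subgroup H where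
  carrier := {h | ∃ s, ∀ g, h * ι g * h⁻¹ = ι (s * g * s⁻¹)}
  mul_mem' := by
    rintro a b ⟨s, hs⟩ ⟨t, ht⟩
    refine ⟨s * t, fun g => ?_⟩
    calc a * b * ι g * (a * b)⁻¹ = a * (b * ι g * b⁻¹) * a⁻¹ := by group
      _ = ι (s * (t * g * t⁻¹) * s⁻¹) := by rw [ht, hs]
      _ = ι (s * t * g * (s * t)⁻¹) := by congr 1; group
  one_mem' := ⟨1, fun g => by simp⟩
  inv_mem' := by
    rintro a ⟨s, hs⟩
    refine ⟨s⁻¹, fun g => ?_⟩
    have h1 := hs (s⁻¹ * g * s)
    have e : s * (s⁻¹ * g * s) * s⁻¹ = g := by group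
    rw [e] at h1
    have h2 : s⁻¹ * g * s⁻¹⁻¹ = s⁻¹ * g * s := by group
    rw [h2, ← h1]
    group

theorem mem_innH_of {h : H} {α : MulAut SL2} (hα : ∀ g, ι (α g) = h * ι g * h⁻¹) (hi : IsInn α) : h ∈ innH ι := by
  obtain ⟨s, hs⟩ := hi
  exact ⟨s, fun g => by rw [← hα, hs]⟩

theorem isInn_of (hinj : Function.Injective ι) {h : H} {α : MulAut SL2} (hα : ∀ g, ι (α g) = h * ι g * h⁻¹)
    (hi : h ∈ innH ι) : IsInn α := by
  obtain ⟨s, hs⟩ := hi
  exact ⟨s, fun g => hinj (by rw [hα, hs])⟩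

end aut

namespace Cfg

variable {H : Type*} {N : Type*} [Group H] [AddCommGroup N] [DistribMulAction H N]
  {ι : Matrix.SpecialLinearGroup (Fin 2) F →* H} {T A : Subgroup H} {v0 : N}

theorem inv_A (h : Cfg ι N T A v0) {a : H} (ha : a ∈ A) : a⁻¹ = a := inv_eq_of_mul_eq_one_left (h.sq a ha)

theorem comm_A (h : Cfg ι N T A v0) {a b : H} (ha : a ∈ A) (hb : b ∈ A) : a * b = b * a := by
  have h1 := h.inv_A (mul_mem ha hb)
  rw [_root_.mul_inv_rev, h.inv_A ha, h.inv_A hb] at h1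
  exact h1.symm

/-- an automorphism induced by an element of `A` is an involution -/
theorem aut_sq (h : Cfg ι N T A v0) {a : H} (ha : a ∈ A) {α : MulAut SL2} (hα : ∀ g, ι (α g) = a * ι g * a⁻¹) (x : SL2) :
    α (α x) = x := h.inj (by
  rw [hα, hα]
  have := h.sq a ha
  calc a * (a * ι x * a⁻¹) * a⁻¹ = (a * a) * ι x * (a * a)⁻¹ := by group
    _ = ι x := by rw [this, one_mul, inv_one, mul_one])

theorem aut_up (h : Cfg ι N T A v0) {a : H} (ha : a ∈ A) {α : MulAut SL2} (hα : ∀ g, ι (α g) = a * ι g * a⁻¹) (b : F) :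
    ∃ c, α (up b) = up c := by
  refine h.of_mem _ ?_
  rw [hα]
  exact mul_mem (mul_mem (h.le ha) (h.up_mem b)) (inv_mem (h.le ha))

variable [CharP F 2] [Finite F]

/-- `A ∩ C_H(SL(2,F)) = 1` -/
theorem eq_one_of_comm [FaithfulSMul H N] (h : Cfg ι N T A v0) (h4 : 4 ≤ Nat.card F) {b : H} (hb : b ∈ A)
    (hc : ∀ g, b * ι g = ι g * b) : b = 1 := by
  obtain ⟨a, ha, g0, hg0⟩ := h.nc
  have hcs : ∀ (g : SL2) (n : N), ι g • (b • n - n) = b • (ι g • n) - ι g • n := fun g n => by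
    rw [smul_sub, ← mul_smul, ← hc g, mul_smul]
  let K : Subgroup SL2 :=
    { carrier := {g | ∀ n : N, ι g • (b • n - n) = b • n - n}
      mul_mem' := fun {x y} hx hy n => by
        rw [map_mul, mul_smul, hy n, hx n]
      one_mem' := fun n => by rw [map_one, one_smul]
      inv_mem' := fun {x} hx n => by
        rw [map_inv, inv_smul_eq_iff, hx n] }
  have hK : K.Normal := by
    refine ⟨fun g hg s n => ?_⟩
    have e1 : ι s⁻¹ • (b • n - n) = b • (ι s⁻¹ • n) - ι s⁻¹ • n := hcs _ _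
    rw [map_mul, map_mul, mul_smul, mul_smul, e1, hg, ← e1, ← mul_smul, ← map_mul, mul_inv_cancel, map_one, one_smul]
  obtain ⟨α, hα⟩ := exists_aut h.inj h.normal a
  have hmem : α g0 * g0⁻¹ ∈ K := by
    intro n
    have e1 : ι g0⁻¹ • (b • n - n) = b • (ι g0⁻¹ • n) - ι g0⁻¹ • n := hcs _ _
    have e2 : ∀ m : N, a⁻¹ • (b • m - m) = b • m - m := fun m => by
      rw [h.inv_A ha]; exact h.quad a ha b hb m
    rw [map_mul, mul_smul, e1, hα, mul_smul, mul_smul, e2, ← e1, ← mul_smul (ι g0), ← map_mul, mul_inv_cancel,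
      map_one, one_smul, h.quad a ha b hb]
  have hne : K ≠ ⊥ := by
    intro e
    rw [e, mem_bot, mul_inv_eq_one] at hmem
    apply hg0
    have := hα g0
    rw [hmem] at this
    nth_rewrite 2 [this]
    group
  have hT := eq_top_of_normal h4 hK hne
  have hnt : ∃ g : SL2, ∃ n : N, ι g • n ≠ n := by
    by_contra hcon
    push Not at hcon
    apply hg0
    have h1 : ι g0 = 1 := by
      apply FaithfulSMul.eq_of_smul_eq_smul (α := N)
      intro n
      rw [hcon, one_smul]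
    rw [h1, mul_one, one_mul]
  apply FaithfulSMul.eq_of_smul_eq_smul (α := N)
  intro n
  have h1 : b • n - n = 0 := by
    refine fix_eq_zero h.normal h.irr hnt fun g => ?_
    have : g ∈ K := by rw [hT]; trivial
    exact this n
  rw [one_smul]
  exact sub_eq_zero.1 h1

/-- elements of `A` inducing inner automorphisms -/
theorem exists_q (h : Cfg ι N T A v0) {a : H} (ha : a ∈ A) (hi : a ∈ innH ι) :
    ∃ q, ∀ g, a * ι g * a⁻¹ = ι (up q * g * (up q)⁻¹) := by
  obtain ⟨α, hα⟩ := exists_aut h.inj h.normal a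
  obtain ⟨q, hq⟩ := up_of_inn (isInn_of h.inj hα hi) (h.aut_sq ha hα) (h.aut_up ha hα)
  exact ⟨q, fun g => by rw [← hα, hq]⟩

theorem q_inj [FaithfulSMul H N] (h : Cfg ι N T A v0) (h4 : 4 ≤ Nat.card F) {a b : H} (ha : a ∈ A) (hb : b ∈ A) {q : F}
    (h1 : ∀ g, a * ι g * a⁻¹ = ι (up q * g * (up q)⁻¹)) (h2 : ∀ g, b * ι g * b⁻¹ = ι (up q * g * (up q)⁻¹)) : a = b := by
  have h3 : b⁻¹ * a = 1 := by
    refine h.eq_one_of_comm h4 (mul_mem (inv_mem hb) ha) fun g => ?_
    have := (h1 g).trans (h2 g).symm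
    calc b⁻¹ * a * ι g = b⁻¹ * (a * ι g * a⁻¹) * a := by group
      _ = b⁻¹ * (b * ι g * b⁻¹) * a := by rw [this]
      _ = ι g * (b⁻¹ * a) := by group
  rw [inv_mul_eq_one] at h3
  exact h3.symm

/-- some element `≠ 1` of `A` induces an inner automorphism -/
theorem exists_inn (h : Cfg ι N T A v0) :
    ∃ a ∈ A, a ∈ innH ι ∧ a ≠ 1 := by
  obtain ⟨a, ha, g0, hg0⟩ := h.nc
  by_cases hi : a ∈ innH ι
  · exact ⟨a, ha, hi, by rintro rfl; exact hg0 (by rw [one_mul, mul_one])⟩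
  obtain ⟨α, hα⟩ := exists_aut h.inj h.normal a
  have h1 : ∃ b, α (up b) ≠ up b := by
    by_contra hcon
    push Not at hcon
    obtain ⟨q, hq⟩ := up_of_fix hcon
    exact hi (mem_innH_of hα ⟨_, hq⟩)
  obtain ⟨b, hb⟩ := h1
  have e : ι (α (up b) * (up b)⁻¹) = a * (ι (up b) * a⁻¹ * (ι (up b))⁻¹) := by
    rw [map_mul, hα, map_inv]; group
  refine ⟨ι (α (up b) * (up b)⁻¹), ?_, ⟨α (up b) * (up b)⁻¹, fun g => by
    simp only [map_mul, map_inv]⟩, ?_⟩
  · rw [e]
    exact mul_mem ha (h.T_norm _ (h.up_mem b) _ (inv_mem ha))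
  · intro e1
    apply hb
    have := h.inj (e1.trans (map_one ι).symm)
    exact mul_inv_eq_one.1 this

/-- `|A| ≤ |F|` -/
theorem card_A [Finite H] [FaithfulSMul H N] (h : Cfg ι N T A v0) (h4 : 4 ≤ Nat.card F) :
    Nat.card A ≤ Nat.card F := by
  classical
  have hq : ∀ a : (A ⊓ innH ι : Subgroup H), ∃ q, ∀ g, (a : H) * ι g * (a : H)⁻¹ = ι (up q * g * (up q)⁻¹) :=
    fun a => h.exists_q a.2.1 a.2.2
  choose q hq using hq
  have hqi : Function.Injective q := by
    intro a b hab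
    refine Subtype.ext (h.q_inj h4 a.2.1 b.2.1 (hq a) ?_)
    rw [hab]
    exact hq b
  by_cases hA : A ≤ innH ι
  · have : (A ⊓ innH ι : Subgroup H) = A := inf_eq_left.2 hA
    have h1 := Nat.card_le_card_of_injective q hqi
    rwa [this] at h1
  · obtain ⟨a, ha, hai⟩ := SetLike.not_le_iff_exists.1 hA
    obtain ⟨α, hα⟩ := exists_aut h.inj h.normal a
    -- the fixed subgroup of `α` in `U`
    let Q : AddSubgroup F :=
      { carrier := {b | α (up b) = up b}
        add_mem' := fun {x y} hx hy => by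
          change α (up (x + y)) = up (x + y)
          rw [← up_mul, map_mul, show α (up x) = up x from hx, show α (up y) = up y from hy]
        zero_mem' := by
          change α (up 0) = up 0
          rw [up_zero, map_one]
        neg_mem' := fun {x} hx => by
          change α (up (-x)) = up (-x)
          rw [← up_inv, map_inv, show α (up x) = up x from hx] }
    have hQ : Q ≠ ⊤ := by
      intro e
      obtain ⟨q, hq⟩ := up_of_fix (α := α) fun b => by
        have : b ∈ Q := by rw [e]; trivial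
        exact this
      exact hai (mem_innH_of hα ⟨_, hq⟩)
    have hqQ : ∀ b : (A ⊓ innH ι : Subgroup H), q b ∈ Q := by
      intro b
      refine eq_of_conj fun x => ?_
      apply h.inj
      have hx : α (α⁻¹ x) = x := MulAut.apply_inv_self _ _ _
      have hab := h.comm_A ha b.2.1
      rw [← hq b x]
      have e1 : α (up (q b)) * x * (α (up (q b)))⁻¹ = α (up (q b) * α⁻¹ x * (up (q b))⁻¹) := by
        rw [map_mul, map_mul, map_inv, hx]
      have e2 : ι x = a * ι (α⁻¹ x) * a⁻¹ := by rw [← hα, hx]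
      rw [e1, hα, ← hq b, e2]
      calc a * ((b : H) * ι (α⁻¹ x) * (b : H)⁻¹) * a⁻¹ = (a * b) * ι (α⁻¹ x) * (a * b)⁻¹ := by group
        _ = (b * a) * ι (α⁻¹ x) * (b * a)⁻¹ := by rw [hab]
        _ = (b : H) * (a * ι (α⁻¹ x) * a⁻¹) * (b : H)⁻¹ := by group
    have h1 : Nat.card (A ⊓ innH ι : Subgroup H) ≤ Nat.card Q :=
      Nat.card_le_card_of_injective (fun b => (⟨q b, hqQ b⟩ : Q)) fun x y hxy => hqi (congrArg Subtype.val hxy)
    have h2 : 2 * Nat.card Q ≤ Nat.card F := by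
      rw [← AddSubgroup.card_mul_index Q, mul_comm]
      refine Nat.mul_le_mul_left _ ?_
      have h3 : Q.index ≠ 1 := fun e => hQ (AddSubgroup.index_eq_one.1 e)
      have h4 : Q.index ≠ 0 := AddSubgroup.index_ne_zero_of_finite
      omega
    have h3 : (A : Set H) ⊆ ((A ⊓ innH ι : Subgroup H) : Set H) ∪ (fun x => a * x) '' ((A ⊓ innH ι : Subgroup H) : Set H) := by
      intro b hb
      by_cases hbi : b ∈ innH ι
      · exact Or.inl ⟨hb, hbi⟩
      · right
        refine ⟨a⁻¹ * b, Subgroup.mem_inf.2 ⟨A.mul_mem (A.inv_mem ha) hb, ?_⟩, by group⟩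
        rw [h.inv_A ha]
        obtain ⟨β, hβ⟩ := exists_aut h.inj h.normal b
        refine mem_innH_of (α := α * β) (fun g => ?_) (inn_mul (h.aut_sq ha hα) (h.aut_sq hb hβ)
          (fun e => hai (mem_innH_of hα e)) fun e => hbi (mem_innH_of hβ e))
        rw [MulAut.mul_apply, hα, hβ]
        group
    have h5 : Nat.card A ≤ Nat.card (A ⊓ innH ι : Subgroup H) + Nat.card (A ⊓ innH ι : Subgroup H) := by
      have e1 : Nat.card A = (A : Set H).ncard := rfl
      have e2 : Nat.card (A ⊓ innH ι : Subgroup H) = ((A ⊓ innH ι : Subgroup H) : Set H).ncard := rfl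
      rw [e1, e2]
      refine (Set.ncard_le_ncard h3 (Set.toFinite _)).trans ((Set.ncard_union_le _ _).trans ?_)
      exact Nat.add_le_add_left (Set.ncard_image_le (Set.toFinite _)) _
    omega

theorem exists_nt (h : Cfg ι N T A v0) [FaithfulSMul H N] : ∃ g : SL2, ∃ n : N, ι g • n ≠ n := by
  by_contra hcon
  push Not at hcon
  obtain ⟨a, ha, g0, hg0⟩ := h.nc
  apply hg0
  have h1 : ι g0 = 1 := by
    apply FaithfulSMul.eq_of_smul_eq_smul (α := N)
    intro n
    rw [hcon, one_smul]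
  rw [h1, mul_one, one_mul]

/-- `|N| ≤ 4 |A|²` -/
theorem card_N' [Finite H] [Finite N] [FaithfulSMul H N] (h : Cfg ι N T A v0) (h4 : 4 ≤ Nat.card F) :
    Nat.card N ≤ (2 * Nat.card A) ^ 2 := by
  have : Fintype F := Fintype.ofFinite F
  obtain ⟨m, -, hm⟩ := FiniteField.card F 2
  obtain ⟨t, ht, hs⟩ := trace_zero hm h.two h.normal h.irr h.exists_nt
  obtain ⟨a, ha, hai, ha1⟩ := h.exists_inn
  obtain ⟨q, hq⟩ := h.exists_q ha hai
  have hq0 : q ≠ 0 := by
    rintro rfl
    refine ha1 (h.eq_one_of_comm h4 ha fun g => ?_)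
    have := hq g
    rw [up_zero, one_mul, inv_one, mul_one] at this
    exact mul_inv_eq_iff_eq_mul.1 this
  exact (card_le_sq hm h.two ht hs hq0 hq).trans (Nat.pow_le_pow_left (h.small a ha ha1) 2)

/-- `|N| ≤ 4 |F|²` -/
theorem card_N [Finite H] [Finite N] [FaithfulSMul H N] (h : Cfg ι N T A v0) (h4 : 4 ≤ Nat.card F) :
    Nat.card N ≤ (2 * Nat.card F) ^ 2 :=
  (h.card_N' h4).trans (Nat.pow_le_pow_left (Nat.mul_le_mul_left _ (h.card_A h4)) 2)

theorem lt_four {q n : ℕ} (h4 : 4 ≤ q) (h : n ≤ (2 * q) ^ 2) : n < q ^ 4 := by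
  refine lt_of_le_of_lt h ?_
  have h1 : (2 * q) ^ 2 = 4 * q ^ 2 := by ring
  have h2 : q ^ 4 = q ^ 2 * q ^ 2 := by ring
  rw [h1, h2]
  have h3 : 4 < q ^ 2 := by nlinarith
  exact Nat.mul_lt_mul_of_pos_right h3 (by positivity)

/-- a minimal submodule has order at least `|F|²` -/
theorem card_mn [Finite H] [Finite N] [FaithfulSMul H N] (h : Cfg ι N T A v0) (h4 : 4 ≤ Nat.card F)
    {Y : AddSubgroup N} (hY : Mn ι Y) : Nat.card F ^ 2 ≤ Nat.card Y := by
  have : Fintype F := Fintype.ofFinite F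
  obtain ⟨m, -, hm⟩ := FiniteField.card F 2
  have hc : Nat.card Y < Fintype.card F ^ 4 := by
    rw [← Nat.card_eq_fintype_card]
    exact lt_four h4 ((Nat.card_le_card_of_injective _ Subtype.val_injective).trans (h.card_N h4))
  have hirr : IsIrr (res hY.inv) := ⟨mn_nontrivial hY, res_irr hY⟩
  have hnt : ∃ g x, res hY.inv g x ≠ x := by
    by_contra hcon
    push Not at hcon
    apply hY.ne
    rw [AddSubgroup.eq_bot_iff_forall]
    intro x hx
    exact fix_eq_zero h.normal h.irr h.exists_nt fun g => congrArg Subtype.val (hcon g ⟨x, hx⟩)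
  rcases km_lt hm (fun v : Y => Subtype.ext (h.two v)) hirr hnt hc with ⟨e, -⟩ | ⟨d, -, hmd, hcd, -⟩ |
    ⟨d, -, hmd, hcd, -⟩
  · rw [Nat.card_congr e.toEquiv, Nat.card_fun, Nat.card_eq_fintype_card (α := Fin 2), Fintype.card_fin]
  · rw [hcd, Nat.card_eq_fintype_card, hm, ← pow_mul]
    exact Nat.pow_le_pow_right (by norm_num) (by omega)
  · rw [hcd, Nat.card_eq_fintype_card, hm, ← pow_mul]
    exact Nat.pow_le_pow_right (by norm_num) (by omega)

/-- `N` is irreducible for `SL(2,F)` -/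
theorem mn_top [Finite H] [Finite N] [FaithfulSMul H N] (h : Cfg ι N T A v0) (h4 : 4 ≤ Nat.card F) :
    Mn ι (⊤ : AddSubgroup N) := by
  have hne : (⊤ : AddSubgroup N) ≠ ⊥ := by
    intro e
    have h1 : v0 ∈ (⊥ : AddSubgroup N) := by rw [← e]; trivial
    exact h.v_ne h1
  obtain ⟨Y, -, hY⟩ := exists_mn (ι := ι) (X := (⊤ : AddSubgroup N)) (fun _ _ _ => trivial) hne
  by_cases hcon : ∀ g : H, tr g Y ≤ Y
  · have h1 : (⊤ : AddSubgroup N) ≤ Y := by
      rw [← mn_span h.irr hY]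
      exact iSup_le hcon
    rwa [← top_le_iff.1 h1]
  push Not at hcon
  obtain ⟨g, hg⟩ := hcon
  exfalso
  have hZ := mn_tr h.normal hY g
  have h1 : tr g Y ⊓ Y = ⊥ := by
    refine (hZ.min _ (fun s x hx => AddSubgroup.mem_inf.2 ⟨hZ.inv s x hx.1, hY.inv s x hx.2⟩) inf_le_left).resolve_right fun e => hg ?_
    rw [← e]; exact inf_le_right
  have h2 : Nat.card (tr g Y) ≤ Y.index := by
    refine Nat.card_le_card_of_injective (fun x : tr g Y => (QuotientAddGroup.mk (x : N) : N ⧸ Y)) ?_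
    intro x y hxy
    have h4 := QuotientAddGroup.eq.1 hxy
    have h5 : -(x : N) + y ∈ tr g Y ⊓ Y := AddSubgroup.mem_inf.2 ⟨add_mem (neg_mem x.2) y.2, h4⟩
    rw [h1, AddSubgroup.mem_bot] at h5
    exact Subtype.ext (neg_add_eq_zero.1 h5)
  rw [card_tr] at h2
  have h3 : Nat.card Y * Nat.card Y ≤ Nat.card N := by
    rw [← AddSubgroup.card_mul_index Y]
    exact Nat.mul_le_mul_left _ h2
  have h5 := h.card_mn h4 hY
  have h6 := lt_four h4 (h.card_N h4)
  have h7 : Nat.card F ^ 4 ≤ Nat.card Y * Nat.card Y := by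
    calc Nat.card F ^ 4 = Nat.card F ^ 2 * Nat.card F ^ 2 := by ring
      _ ≤ _ := Nat.mul_le_mul h5 h5
  omega

/-- elements of `A` inducing inner automorphisms lie in `U` -/
theorem mem_up [Finite H] [Finite N] [FaithfulSMul H N] (h : Cfg ι N T A v0) (h4 : 4 ≤ Nat.card F) {a : H}
    (ha : a ∈ A) (hi : a ∈ innH ι) : ∃ q, a = ι (up q) := by
  obtain ⟨q, hq⟩ := h.exists_q ha hi
  refine ⟨q, ?_⟩
  set c := a * (ι (up q))⁻¹ with hc
  have hac : a * ι (up q) = ι (up q) * a := by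
    have := hq (up q)
    rw [mul_inv_cancel_right] at this
    nth_rewrite 2 [← this]
    group
  have huu : ι (up q) * ι (up q) = 1 := by
    rw [← map_mul, up_mul, CharTwo.add_self_eq_zero, up_zero, map_one]
  have hcc : c * c = 1 := by
    have e : (ι (up q))⁻¹ = ι (up q) := inv_eq_of_mul_eq_one_left huu
    rw [hc, e]
    calc a * ι (up q) * (a * ι (up q)) = a * (ι (up q) * a) * ι (up q) := by group
      _ = a * (a * ι (up q)) * ι (up q) := by rw [hac]
      _ = (a * a) * (ι (up q) * ι (up q)) := by group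
      _ = 1 := by rw [h.sq a ha, huu, one_mul]
  have hcg : ∀ g, c * ι g = ι g * c := by
    intro g
    have := hq ((up q)⁻¹ * g * up q)
    have e : up q * ((up q)⁻¹ * g * up q) * (up q)⁻¹ = g := by group
    rw [e] at this
    rw [hc]
    calc a * (ι (up q))⁻¹ * ι g = a * ι ((up q)⁻¹ * g * up q) * a⁻¹ * (a * (ι (up q))⁻¹) := by
          rw [map_mul, map_mul, map_inv]; group
      _ = ι g * (a * (ι (up q))⁻¹) := by rw [this]
  have hinv : Inv ι (fixN N c) := by
    intro g x hx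
    rw [mem_fixN] at *
    rw [← mul_smul, hcg, mul_smul, hx]
  have hne : fixN N c ≠ ⊥ := by
    intro e
    have h1 : v0 + c • v0 ∈ fixN N c := by
      rw [mem_fixN, smul_add, ← mul_smul, hcc, one_smul, add_comm]
    rw [e, AddSubgroup.mem_bot] at h1
    have h2 : c • v0 = v0 := by
      have h3 := h.two v0
      have h4 : c • v0 = -v0 := by rw [← add_eq_zero_iff_eq_neg']; exact h1
      rw [h4]
      exact neg_eq_of_add_eq_zero_left h3
    have h3 : v0 ∈ fixN N c := h2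
    rw [e, AddSubgroup.mem_bot] at h3
    exact h.v_ne h3
  have htop := ((h.mn_top h4).min _ hinv le_top).resolve_left hne
  have h1 : c = 1 := by
    apply FaithfulSMul.eq_of_smul_eq_smul (α := N)
    intro n
    have : n ∈ fixN N c := by rw [htop]; trivial
    rw [one_smul]
    exact this
  rw [hc, mul_inv_eq_one] at h1
  exact h1

/-- some element `up q`, `q ≠ 0`, lies in `A` -/
theorem exists_up [Finite H] [Finite N] [FaithfulSMul H N] (h : Cfg ι N T A v0) (h4 : 4 ≤ Nat.card F) :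
    ∃ q, q ≠ 0 ∧ ι (up q) ∈ A := by
  obtain ⟨a, ha, hai, ha1⟩ := h.exists_inn
  obtain ⟨q, rfl⟩ := h.mem_up h4 ha hai
  exact ⟨q, by rintro rfl; exact ha1 (by rw [up_zero, map_one]), ha⟩

end Cfg

end Cfsg.Agent.Omega.NO3S.SLTwo
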