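import Mathlib
import Cfsg.Agent.Omega.NO3S.SLTwo.Cfg

/-!
# NO-3S, `q = 2`, `n = 1`, a component `SL₂(F)`: the module is natural ((A1) of helper881's text #13700)

`Cfg.natural` : `N` is the natural `SL₂(F)`-module and `A ≤ ι(U)`.
-/

set_option autoImplicit false
set_option linter.unusedSectionVars false

namespace Cfsg.Agent.Omega.NO3S.SLTwo

open Matrix Subgroup Cfsg.Agent.Lib.SL2Mat Cfsg.Agent.Lib.AutSL2 Cfsg.Agent.Lib.AutSL2Out
open Cfsg.Agent.Omega.KM (ww IsIrr km_lt Herm Trip mem_Herm mem_Trip)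

variable {F : Type*} [Field F]

local notation "SL2" => Matrix.SpecialLinearGroup (Fin 2) F

/-- an element with `s ^ k ≠ 1` -/
theorem exists_pow_ne [Finite F] {k : ℕ} (hk : 0 < k) (hk' : k < Nat.card F - 1) : ∃ s : F, s ≠ 0 ∧ s ^ k ≠ 1 := by
  classical
  have : Fintype F := Fintype.ofFinite F
  obtain ⟨g, hg⟩ := IsCyclic.exists_generator (α := Fˣ)
  refine ⟨g, g.ne_zero, fun e => ?_⟩
  have h1 : g ^ k = 1 := Units.ext (by rw [Units.val_pow_eq_pow_val]; exact e)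
  have h2 := orderOf_dvd_of_pow_eq_one h1
  rw [orderOf_eq_card_of_forall_mem_zpowers hg, Nat.card_eq_fintype_card, Fintype.card_units,
    ← Nat.card_eq_fintype_card] at h2
  have := Nat.le_of_dvd hk h2
  omega

theorem dg_pow (t : F) (ht : t ≠ 0) (n : ℕ) : dg t ht ^ n = dg (t ^ n) (pow_ne_zero n ht) := by
  induction n with
  | zero => refine ext_ent ?_ ?_ ?_ ?_ <;> simp
  | succ n ih =>
    rw [pow_succ, ih]
    refine ext_ent ?_ ?_ ?_ ?_ <;> simp [ent_mul, pow_succ, mul_comm]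

theorem odd_dg [Finite F] [CharP F 2] (t : F) (ht : t ≠ 0) : Odd (orderOf (dg t ht)) := by
  have : Fintype F := Fintype.ofFinite F
  obtain ⟨m, -, hm⟩ := FiniteField.card F 2
  have h1 : dg t ht ^ (Fintype.card F - 1) = 1 := by
    rw [dg_pow]
    refine ext_ent ?_ ?_ ?_ ?_ <;> simp [FiniteField.pow_card_sub_one_eq_one t ht]
  have h2 : Odd (Fintype.card F - 1) := by
    rw [hm]
    have : 2 ∣ 2 ^ (m : ℕ) := dvd_pow_self 2 m.pos.ne'
    have h3 : 0 < 2 ^ (m : ℕ) := by positivity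
    rw [← Nat.not_even_iff_odd, even_iff_two_dvd]
    omega
  exact Odd.of_dvd_nat h2 (orderOf_dvd_of_pow_eq_one h1)

/-! ### `O_4^-` -/

section herm

variable [CharP F 2] {d : ℕ}

theorem herm_up (b : F) (M : Matrix (Fin 2) (Fin 2) F) : (up b).1 * M * ((up b).1.map (· ^ 2 ^ d))ᵀ =
    !![M 0 0 + b * M 1 0 + (M 0 1 + b * M 1 1) * b ^ 2 ^ d, M 0 1 + b * M 1 1;
      M 1 0 + M 1 1 * b ^ 2 ^ d, M 1 1] := by
  have h : (up b).1 = !![1, b; 0, 1] := rfl
  rw [h]
  ext i j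
  fin_cases i <;> fin_cases j <;>
    simp [Matrix.mul_apply, Fin.sum_univ_two, Matrix.vecMul, dotProduct]

theorem herm_dg (t : F) (ht : t ≠ 0) (M : Matrix (Fin 2) (Fin 2) F) :
    (dg t ht).1 * M * ((dg t ht).1.map (· ^ 2 ^ d))ᵀ =
    !![t * M 0 0 * t ^ 2 ^ d, t * M 0 1 * t⁻¹ ^ 2 ^ d; t⁻¹ * M 1 0 * t ^ 2 ^ d, t⁻¹ * M 1 1 * t⁻¹ ^ 2 ^ d] := by
  have h : (dg t ht).1 = !![t, 0; 0, t⁻¹] := rfl
  rw [h]
  ext i j
  fin_cases i <;> fin_cases j <;>
    simp [Matrix.mul_apply, Fin.sum_univ_two, Matrix.vecMul, dotProduct]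

end herm

/-! ### triple tensors -/

section trip

variable [CharP F 2] {d : ℕ}

/-- the action on triple tensors -/
def tri (d : ℕ) (g : Matrix (Fin 2) (Fin 2) F) (x : Fin 2 → Fin 2 → Fin 2 → F) (a b c : Fin 2) : F :=
  ∑ a', ∑ b', ∑ c', g a a' * g b b' ^ 2 ^ d * g c c' ^ 2 ^ (2 * d) * x a' b' c'

theorem tri_up_000 (q : F) (x : Fin 2 → Fin 2 → Fin 2 → F) : tri d (up q).1 x 0 0 0 =
    x 0 0 0 + q * x 1 0 0 + q ^ 2 ^ d * x 0 1 0 + q ^ 2 ^ (2 * d) * x 0 0 1 + q * q ^ 2 ^ d * x 1 1 0 +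
      q * q ^ 2 ^ (2 * d) * x 1 0 1 + q ^ 2 ^ d * q ^ 2 ^ (2 * d) * x 0 1 1 +
      q * q ^ 2 ^ d * q ^ 2 ^ (2 * d) * x 1 1 1 := by
  have h : (up q).1 = !![1, q; 0, 1] := rfl
  rw [h]
  simp [tri, Fin.sum_univ_two]
  ring

theorem tri_up_001 (q : F) (x : Fin 2 → Fin 2 → Fin 2 → F) : tri d (up q).1 x 0 0 1 =
    x 0 0 1 + q * x 1 0 1 + q ^ 2 ^ d * x 0 1 1 + q * q ^ 2 ^ d * x 1 1 1 := by
  have h : (up q).1 = !![1, q; 0, 1] := rfl
  rw [h]
  simp [tri, Fin.sum_univ_two]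
  ring

theorem tri_up_011 (q : F) (x : Fin 2 → Fin 2 → Fin 2 → F) : tri d (up q).1 x 0 1 1 =
    x 0 1 1 + q * x 1 1 1 := by
  have h : (up q).1 = !![1, q; 0, 1] := rfl
  rw [h]
  simp [tri, Fin.sum_univ_two]

theorem tri_up_101 (q : F) (x : Fin 2 → Fin 2 → Fin 2 → F) : tri d (up q).1 x 1 0 1 =
    x 1 0 1 + q ^ 2 ^ d * x 1 1 1 := by
  have h : (up q).1 = !![1, q; 0, 1] := rfl
  rw [h]
  simp [tri, Fin.sum_univ_two]

theorem tri_up_111 (q : F) (x : Fin 2 → Fin 2 → Fin 2 → F) : tri d (up q).1 x 1 1 1 = x 1 1 1 := by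
  have h : (up q).1 = !![1, q; 0, 1] := rfl
  rw [h]
  simp [tri, Fin.sum_univ_two]

end trip

namespace Cfg

variable {H : Type*} {N : Type*} [Group H] [AddCommGroup N] [DistribMulAction H N]
  {ι : Matrix.SpecialLinearGroup (Fin 2) F →* H} {T A : Subgroup H} {v0 : N} [CharP F 2] [Fintype F]

/-- conjugates of `up q ∈ A` under the elements of the torus which fix `v0` -/
theorem up_mem_A (h : Cfg ι N T A v0) {q t : F} (ht : t ≠ 0) (hq : ι (up q) ∈ A) (hv : ι (dg t ht) • v0 = v0) :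
    ι (up (t ^ 2 * q)) ∈ A := by
  have := h.odd_norm _ (odd_dg t ht) hv _ hq
  rw [← map_mul, dg_up, map_mul, mul_inv_cancel_right] at this
  exact this

/-- `O_4^-` is impossible -/
theorem not_herm [Finite H] [Finite N] [FaithfulSMul H N] (h : Cfg ι N T A v0) (h4 : 4 ≤ Nat.card F) {d : ℕ} (hd : 0 < d)
    (hF : Fintype.card F = 2 ^ (2 * d)) (e : N ≃+ Herm F d)
    (he : ∀ g x, ((e (ι g • x) : Herm F d) : Matrix (Fin 2) (Fin 2) F) =
      g.1 * (e x : Matrix (Fin 2) (Fin 2) F) * (g.1.map (· ^ 2 ^ d))ᵀ) : False := by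
  have hd2 : 2 ≤ 2 ^ d := by
    calc 2 = 2 ^ 1 := by norm_num
      _ ≤ 2 ^ d := Nat.pow_le_pow_right (by norm_num) hd
  have hcard : Nat.card F = 2 ^ d * 2 ^ d := by rw [Nat.card_eq_fintype_card, hF, two_mul, pow_add]
  obtain ⟨q, hq0, hq⟩ := h.exists_up h4
  -- a torus element
  obtain ⟨s, hs0, hs⟩ := exists_pow_ne (F := F) (k := 2 ^ d - 1) (by omega) (by
    rw [hcard]
    have : 2 * 2 ^ d ≤ 2 ^ d * 2 ^ d := Nat.mul_le_mul_right _ hd2
    omega)
  set t := s ^ (2 ^ d - 1) with htd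
  have ht0 : t ≠ 0 := pow_ne_zero _ hs0
  have htt : t * t ^ 2 ^ d = 1 := by
    have h1 : t * t ^ 2 ^ d = s ^ (Fintype.card F - 1) := by
      rw [htd, ← pow_mul, ← pow_add]
      congr 1
      rw [← Nat.card_eq_fintype_card, hcard]
      have : (2 ^ d - 1) * 2 ^ d = 2 ^ d * 2 ^ d - 2 ^ d := by rw [Nat.sub_mul, one_mul]
      rw [this]
      have : 2 ^ d ≤ 2 ^ d * 2 ^ d := Nat.le_mul_of_pos_left _ (by positivity)
      omega
    rw [h1, FiniteField.pow_card_sub_one_eq_one s hs0]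
  have hst : s * t = s ^ 2 ^ d := by rw [htd, ← pow_succ', Nat.sub_add_cancel (by omega)]
  clear_value t
  -- the shape of `v0`
  set M : Matrix (Fin 2) (Fin 2) F := (e v0 : Matrix (Fin 2) (Fin 2) F) with hM
  have hfix : ∀ b, (!![M 0 0 + b * M 1 0 + (M 0 1 + b * M 1 1) * b ^ 2 ^ d, M 0 1 + b * M 1 1;
      M 1 0 + M 1 1 * b ^ 2 ^ d, M 1 1] : Matrix (Fin 2) (Fin 2) F) = M := fun b => by
    rw [← herm_up, ← he, h.v_fix]
  have h11 : M 1 1 = 0 := by
    have := congrFun (congrFun (hfix 1) 0) 1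
    change M 0 1 + 1 * M 1 1 = M 0 1 at this
    rw [one_mul] at this
    exact add_eq_left.1 this
  have hh : ∀ b, b * M 1 0 + M 0 1 * b ^ 2 ^ d = 0 := fun b => by
    have := congrFun (congrFun (hfix b) 0) 0
    change M 0 0 + b * M 1 0 + (M 0 1 + b * M 1 1) * b ^ 2 ^ d = M 0 0 at this
    rw [h11, mul_zero, add_zero, add_assoc] at this
    exact add_eq_left.1 this
  have h01 : M 1 0 = M 0 1 := by
    have := hh 1
    rw [one_mul, one_pow, mul_one] at this
    exact CharTwo.add_eq_zero.1 this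
  have h01' : M 0 1 = 0 := by
    have h1 := hh s
    rw [h01] at h1
    have h2 : M 0 1 * (s * (1 + t)) = 0 := by
      rw [mul_add, mul_one, hst]
      linear_combination h1
    rcases mul_eq_zero.1 h2 with h3 | h3
    · exact h3
    · exfalso
      rcases mul_eq_zero.1 h3 with h3 | h3
      · exact hs0 h3
      · exact hs (CharTwo.add_eq_zero.1 h3).symm
  have h10 : M 1 0 = 0 := by rw [h01, h01']
  -- the torus element fixes `v0`
  have hv : ι (dg t ht0) • v0 = v0 := by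
    apply e.injective
    apply Subtype.ext
    rw [he, herm_dg]
    ext i j
    fin_cases i <;> fin_cases j
    · change t * M 0 0 * t ^ 2 ^ d = M 0 0
      linear_combination M 0 0 * htt
    · change t * M 0 1 * t⁻¹ ^ 2 ^ d = M 0 1
      rw [h01', mul_zero, zero_mul]
    · change t⁻¹ * M 1 0 * t ^ 2 ^ d = M 1 0
      rw [h10, mul_zero, zero_mul]
    · change t⁻¹ * M 1 1 * t⁻¹ ^ 2 ^ d = M 1 1
      rw [h11, mul_zero, zero_mul]
  have hq' := h.up_mem_A ht0 hq hv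
  -- quadratic action
  have hE : (!![0, 0; 0, 1] : Matrix (Fin 2) (Fin 2) F) ∈ Herm F d := by
    rw [mem_Herm]
    have h2d : 2 ^ d ≠ 0 := by positivity
    intro a b
    fin_cases a <;> fin_cases b <;> simp
  obtain ⟨n, hn⟩ := e.surjective ⟨_, hE⟩
  have hn' : (e n : Matrix (Fin 2) (Fin 2) F) = !![0, 0; 0, 1] := by rw [hn]
  have h1 := h.quad _ hq' _ hq n
  set x := ι (up q) • n - n with hx
  have hxM : (e x : Matrix (Fin 2) (Fin 2) F) = !![q * q ^ 2 ^ d, q; q ^ 2 ^ d, 0] := by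
    have h2 : (e x : Matrix (Fin 2) (Fin 2) F) = (e (ι (up q) • n) : Matrix (Fin 2) (Fin 2) F) - e n := by
      rw [hx, map_sub]; rfl
    rw [h2, he, herm_up, hn']
    ext i j
    fin_cases i <;> fin_cases j <;> simp
  have h2 := congrArg (fun y => (e y : Matrix (Fin 2) (Fin 2) F) 0 0) h1
  simp only [he, herm_up, hxM] at h2
  change q * q ^ 2 ^ d + t ^ 2 * q * q ^ 2 ^ d + (q + t ^ 2 * q * 0) * (t ^ 2 * q) ^ 2 ^ d = q * q ^ 2 ^ d at h2
  have h3 : q * q ^ 2 ^ d * (t ^ 2 + (t ^ 2 ^ d) ^ 2) = 0 := by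
    have e1 : (t ^ 2 * q) ^ 2 ^ d = (t ^ 2 ^ d) ^ 2 * q ^ 2 ^ d := by
      rw [mul_pow, ← pow_mul, ← pow_mul, mul_comm 2]
    rw [e1] at h2
    linear_combination h2
  have h4' : t ^ 2 + (t ^ 2 ^ d) ^ 2 = 0 := (mul_eq_zero.1 h3).resolve_left
    (mul_ne_zero hq0 (pow_ne_zero _ hq0))
  have h5 : t ^ 2 ^ d = t := by
    have h6 : (t + t ^ 2 ^ d) ^ 2 = 0 := by rw [CharTwo.add_sq]; exact h4'
    have h7 := pow_eq_zero_iff (two_ne_zero) |>.1 h6
    exact (CharTwo.add_eq_zero.1 h7).symm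
  rw [h5] at htt
  have h6 : (t + 1) ^ 2 = 0 := by rw [CharTwo.add_sq, pow_two, htt, one_pow, CharTwo.add_self_eq_zero]
  have h7 := pow_eq_zero_iff (two_ne_zero) |>.1 h6
  exact hs (CharTwo.add_eq_zero.1 h7)

/-- the triple tensor module is impossible -/
theorem not_trip [Finite H] [Finite N] [FaithfulSMul H N] (h : Cfg ι N T A v0) (h4 : 4 ≤ Nat.card F) {d : ℕ} (hd : 0 < d)
    (hF : Fintype.card F = 2 ^ (3 * d)) (e : N ≃+ Trip F d)
    (he : ∀ g x a b c, ((e (ι g • x) : Trip F d) : Fin 2 → Fin 2 → Fin 2 → F) a b c =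
      tri d g.1 (e x : Fin 2 → Fin 2 → Fin 2 → F) a b c) : False := by
  have hd2 : 2 ≤ 2 ^ d := by
    calc 2 = 2 ^ 1 := by norm_num
      _ ≤ 2 ^ d := Nat.pow_le_pow_right (by norm_num) hd
  have hcard : Nat.card F = 2 ^ d * 2 ^ d * 2 ^ d := by
    rw [Nat.card_eq_fintype_card, hF, ← pow_add, ← pow_add]
    congr 1
    ring
  obtain ⟨q, hq0, hq⟩ := h.exists_up h4
  -- a torus element
  obtain ⟨k, hk⟩ : ∃ k, 2 ^ d = k + 1 := ⟨2 ^ d - 1, by omega⟩
  have hk1 : 1 ≤ k := by omega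
  obtain ⟨s, hs0, hs⟩ := exists_pow_ne (F := F) (k := k * k) (by positivity) (by
    rw [hcard, hk]
    have : k * k + 1 < (k + 1) * (k + 1) * (k + 1) := by nlinarith
    omega)
  set t := s ^ k with htd
  have ht0 : t ≠ 0 := pow_ne_zero _ hs0
  have htt : t * t ^ 2 ^ d * t ^ 2 ^ (2 * d) = 1 := by
    have h1 : t * t ^ 2 ^ d * t ^ 2 ^ (2 * d) = s ^ (Fintype.card F - 1) := by
      have e1 : 2 ^ (2 * d) = (k + 1) * (k + 1) := by rw [← hk, two_mul, pow_add]
      rw [htd, e1, hk, ← pow_mul, ← pow_mul, ← pow_add, ← pow_add]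
      congr 1
      rw [← Nat.card_eq_fintype_card, hcard, hk]
      have : (k + 1) * (k + 1) * (k + 1) = k + k * (k + 1) + k * ((k + 1) * (k + 1)) + 1 := by ring
      rw [this, Nat.add_sub_cancel]
    rw [h1, FiniteField.pow_card_sub_one_eq_one s hs0]
  have hst : s * t = s ^ 2 ^ d := by rw [htd, hk, ← pow_succ']
  have hne : t ^ 2 ^ d ≠ t := by
    intro e1
    rw [hk, pow_succ] at e1
    have e2 : t ^ k = 1 := by
      have := mul_right_cancel₀ ht0 (e1.trans (one_mul t).symm)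
      exact this
    rw [htd, ← pow_mul] at e2
    exact hs e2
  have ht1 : t ≠ 1 := by
    intro e1
    exact hne (by rw [e1, one_pow])
  clear_value t
  -- the shape of `v0`
  set M : Fin 2 → Fin 2 → Fin 2 → F := (e v0 : Fin 2 → Fin 2 → Fin 2 → F) with hM
  have hMT : ∀ a b c, M a b c = M b c a ^ 2 ^ d := (e v0).2
  have hfix : ∀ r a b c, tri d (up r).1 M a b c = M a b c := fun r a b c => by
    rw [← he, h.v_fix]
  have h111 : M 1 1 1 = 0 := by
    have := hfix 1 0 1 1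
    rw [tri_up_011, one_mul] at this
    exact add_eq_left.1 this
  have hh : ∀ b, b * M 1 0 1 + b ^ 2 ^ d * M 0 1 1 = 0 := fun b => by
    have := hfix b 0 0 1
    rw [tri_up_001, h111, mul_zero, add_zero, add_assoc] at this
    exact add_eq_left.1 this
  have h101 : M 1 0 1 = M 0 1 1 := by
    have := hh 1
    rw [one_mul, one_pow, one_mul] at this
    exact CharTwo.add_eq_zero.1 this
  have h011 : M 0 1 1 = 0 := by
    have h1 := hh s
    rw [h101] at h1
    have h2 : M 0 1 1 * (s * (1 + t)) = 0 := by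
      rw [mul_add, mul_one, hst]
      linear_combination h1
    rcases mul_eq_zero.1 h2 with h3 | h3
    · exact h3
    · exfalso
      rcases mul_eq_zero.1 h3 with h3 | h3
      · exact hs0 h3
      · exact ht1 (CharTwo.add_eq_zero.1 h3).symm
  have h101' : M 1 0 1 = 0 := by rw [h101, h011]
  have h2d : 2 ^ d ≠ 0 := by positivity
  have h110 : M 1 1 0 = 0 := by rw [hMT 1 1 0, h101', zero_pow h2d]
  have h010 : M 0 1 0 = M 1 0 0 ^ 2 ^ d := hMT 0 1 0
  have h001 : M 0 0 1 = M 1 0 0 ^ 2 ^ (2 * d) := by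
    rw [hMT 0 0 1, h010, ← pow_mul, ← pow_add, two_mul]
  have h100 : M 1 0 0 = 0 := by
    by_contra hne0
    have h1 := hfix (M 1 0 0)⁻¹ 0 0 0
    rw [tri_up_000, h110, h101', h011, h111, h010, h001] at h1
    have e1 : (M 1 0 0)⁻¹ * M 1 0 0 = 1 := inv_mul_cancel₀ hne0
    have e2 : (M 1 0 0)⁻¹ ^ 2 ^ d * M 1 0 0 ^ 2 ^ d = 1 := by rw [← mul_pow, e1, one_pow]
    have e3 : (M 1 0 0)⁻¹ ^ 2 ^ (2 * d) * M 1 0 0 ^ 2 ^ (2 * d) = 1 := by rw [← mul_pow, e1, one_pow]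
    rw [e1, e2, e3] at h1
    have h2 : (2 : F) = 0 := CharTwo.two_eq_zero
    have h3 : (1 : F) = 0 := by linear_combination h1 - h2
    exact one_ne_zero h3
  -- the torus element fixes `v0`
  have hv : ι (dg t ht0) • v0 = v0 := by
    apply e.injective
    apply Subtype.ext
    funext a b c
    rw [he]
    have hg : (dg t ht0).1 = !![t, 0; 0, t⁻¹] := rfl
    rw [hg]
    have z1 : M 0 0 1 = 0 := by rw [h001, h100, zero_pow (by positivity)]
    have z2 : M 0 1 0 = 0 := by rw [h010, h100, zero_pow h2d]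
    have key : ∀ a b c, tri d !![t, 0; 0, t⁻¹] M a b c = M a b c := by
      intro a b c
      fin_cases a <;> fin_cases b <;> fin_cases c <;>
        simp [tri, Fin.sum_univ_two, z1, z2, h100, h110, h101', h011, h111]
      rw [htt, one_mul]
    exact key a b c
  have hq' := h.up_mem_A ht0 hq hv
  -- quadratic action
  have hE : (fun a b c => if a = 1 ∧ b = 1 ∧ c = 1 then 1 else 0 : Fin 2 → Fin 2 → Fin 2 → F) ∈ Trip F d := by
    rw [mem_Trip]
    intro a b c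
    fin_cases a <;> fin_cases b <;> fin_cases c <;> simp
  obtain ⟨n, hn⟩ := e.surjective ⟨_, hE⟩
  have hn' : (e n : Fin 2 → Fin 2 → Fin 2 → F) = fun a b c => if a = 1 ∧ b = 1 ∧ c = 1 then 1 else 0 := by rw [hn]
  have h1 := h.quad _ hq' _ hq n
  set x := ι (up q) • n - n with hx
  have hxM : ∀ a b c, (e x : Fin 2 → Fin 2 → Fin 2 → F) a b c =
      tri d (up q).1 (e n : Fin 2 → Fin 2 → Fin 2 → F) a b c - (e n : Fin 2 → Fin 2 → Fin 2 → F) a b c := by
    intro a b c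
    rw [← he, hx, map_sub]
    rfl
  have x001 : (e x : Fin 2 → Fin 2 → Fin 2 → F) 0 0 1 = q * q ^ 2 ^ d := by
    rw [hxM, tri_up_001, hn']; simp
  have x011 : (e x : Fin 2 → Fin 2 → Fin 2 → F) 0 1 1 = q := by
    rw [hxM, tri_up_011, hn']; simp
  have x101 : (e x : Fin 2 → Fin 2 → Fin 2 → F) 1 0 1 = q ^ 2 ^ d := by
    rw [hxM, tri_up_101, hn']; simp
  have x111 : (e x : Fin 2 → Fin 2 → Fin 2 → F) 1 1 1 = 0 := by
    rw [hxM, tri_up_111, hn']; simp
  have h2 := congrArg (fun y => (e y : Fin 2 → Fin 2 → Fin 2 → F) 0 0 1) h1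
  simp only [he] at h2
  rw [tri_up_001, x001, x011, x101, x111] at h2
  have h3 : q * q ^ 2 ^ d * (t ^ 2 + (t ^ 2 ^ d) ^ 2) = 0 := by
    have e1 : (t ^ 2 * q) ^ 2 ^ d = (t ^ 2 ^ d) ^ 2 * q ^ 2 ^ d := by
      rw [mul_pow, ← pow_mul, ← pow_mul, mul_comm 2]
    rw [e1] at h2
    linear_combination h2
  have h4' : t ^ 2 + (t ^ 2 ^ d) ^ 2 = 0 := (mul_eq_zero.1 h3).resolve_left
    (mul_ne_zero hq0 (pow_ne_zero _ hq0))
  have h6 : (t + t ^ 2 ^ d) ^ 2 = 0 := by rw [CharTwo.add_sq]; exact h4'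
  have h7 := pow_eq_zero_iff (two_ne_zero) |>.1 h6
  exact hne (CharTwo.add_eq_zero.1 h7).symm

/-- in the natural module `A` induces inner automorphisms -/
theorem le_inn [Finite H] [Finite N] [FaithfulSMul H N] (h : Cfg ι N T A v0) (h4 : 4 ≤ Nat.card F)
    (e : N ≃+ (Fin 2 → F)) (he : ∀ g x, e (ι g • x) = g.1 *ᵥ e x) : A ≤ innH ι := by
  intro a ha
  obtain ⟨q, hq0, hq⟩ := h.exists_up h4
  obtain ⟨α, hα⟩ := exists_aut h.inj h.normal a
  have hup : ∀ (b : F) (n : N), e (ι (up b) • n) = ![e n 0 + b * e n 1, e n 1] := by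
    intro b n
    rw [he]
    have hg : (up b).1 = !![1, b; 0, 1] := rfl
    rw [hg]
    ext i
    fin_cases i <;> simp [Matrix.mulVec, dotProduct, Fin.sum_univ_two]
  -- `a` is trivial on `N/X0` and on `X0`
  have h1 : ∀ n, e (a • n) 1 = e n 1 := by
    intro n
    have h2 := h.quad _ hq _ ha n
    have h3 := congrArg (fun y => e y 0) h2
    simp only [hup] at h3
    change e (a • n - n) 0 + q * e (a • n - n) 1 = e (a • n - n) 0 at h3
    have h5 : e (a • n - n) 1 = 0 := (mul_eq_zero.1 (add_eq_left.1 h3)).resolve_left hq0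
    rw [map_sub] at h5
    exact sub_eq_zero.1 h5
  have h2 : ∀ x : N, e x 1 = 0 → a • x = x := by
    intro x hx
    obtain ⟨n, hn⟩ := e.surjective ![0, e x 0 / q]
    have h3 : ι (up q) • n - n = x := by
      apply e.injective
      rw [map_sub, hup, hn]
      ext i
      fin_cases i
      · simp [mul_div_cancel₀ _ hq0]
      · simp [hx]
    have h5 := h.quad _ ha _ hq n
    rwa [h3] at h5
  have h3 : ∀ b, α (up b) = up b := by
    intro b
    apply h.inj
    rw [hα]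
    apply FaithfulSMul.eq_of_smul_eq_smul (α := N)
    intro n
    rw [mul_smul, mul_smul]
    set n' := a⁻¹ • n with hn'
    have e1 : a • n' = n := by rw [hn', smul_inv_smul]
    have e2 : e n' 1 = e n 1 := by rw [← e1, h1]
    have e3 : ι (up b) • n' = n' + (ι (up b) • n - n) := by
      apply e.injective
      rw [map_add, map_sub, hup, hup, e2]
      ext i
      fin_cases i
      · change e n' 0 + b * e n 1 = e n' 0 + (e n 0 + b * e n 1 - e n 0)
        ring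
      · change e n 1 = e n' 1 + (e n 1 - e n 1)
        rw [e2]; ring
    have e4 : a • (ι (up b) • n - n) = ι (up b) • n - n := by
      apply h2
      rw [map_sub, hup]
      change e n 1 - e n 1 = 0
      rw [sub_self]
    rw [e3, smul_add, e1, e4, add_sub_cancel]
  obtain ⟨r, hr⟩ := up_of_fix h3
  exact mem_innH_of hα ⟨_, hr⟩

/-- **(A1)**: the module is natural and `A ≤ ι(U)`. -/
theorem natural [Finite H] [Finite N] [FaithfulSMul H N] (h : Cfg ι N T A v0) (h4 : 4 ≤ Nat.card F) :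
    (∃ e : N ≃+ (Fin 2 → F), ∀ g x, e (ι g • x) = g.1 *ᵥ e x) ∧ ∀ a ∈ A, ∃ q, a = ι (up q) := by
  obtain ⟨m, -, hm⟩ := FiniteField.card F 2
  have hmn := h.mn_top h4
  let ρ : SL2 →* AddMonoid.End N :=
    { toFun := fun g => DistribSMul.toAddMonoidHom N (ι g)
      map_one' := by
        ext y
        change ι 1 • y = y
        rw [map_one, one_smul]
      map_mul' := fun g g' => by
        ext y
        change ι (g * g') • y = ι g • ι g' • y
        rw [map_mul, mul_smul] }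
  have hρ : IsIrr ρ := by
    refine ⟨⟨v0, 0, h.v_ne⟩, fun W hW => ?_⟩
    exact hmn.min W (fun g x hx => hW g x hx) le_top
  have hc : Nat.card N < Fintype.card F ^ 4 := by
    rw [← Nat.card_eq_fintype_card]
    exact lt_four h4 (h.card_N h4)
  have key : ∃ e : N ≃+ (Fin 2 → F), ∀ g x, e (ι g • x) = g.1 *ᵥ e x := by
    rcases km_lt hm h.two hρ h.exists_nt hc with ⟨e, he⟩ | ⟨d, hd, hmd, -, e, he⟩ | ⟨d, hd, hmd, -, e, he⟩
    · exact ⟨e, he⟩
    · exact (h.not_herm h4 hd (by rw [hm, hmd]) e he).elim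
    · exact (h.not_trip h4 hd (by rw [hm, hmd]) e he).elim
  obtain ⟨e, he⟩ := key
  exact ⟨⟨e, he⟩, fun a ha => h.mem_up h4 ha (h.le_inn h4 e he ha)⟩

end Cfg

end Cfsg.Agent.Omega.NO3S.SLTwo
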