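import Mathlib
import Cfsg.Agent.Omega.NO3S.SLTwo.Natural

/-!
# NO-3S, `q = 2`, `n = 1`, a component `SL₂(F)`: `C_M(L) = 0` if `|A| ≥ 4`

`Cfg ι N T A v0`, `p : M → N` surjective equivariant, `[M, A] ∩ ker p = 0`, every proper submodule of `M` in `ker p`.

* `Cfg.half` : `|F| ≤ 2|A|`;
* `Cfg.lift_inj` : `|A| ≥ 4` implies `p` injective.
-/

set_option autoImplicit false
set_option linter.unusedSectionVars false

namespace Cfsg.Agent.Omega.NO3S.SLTwo

open Matrix Subgroup Cfsg.Agent.Lib.SL2Mat Cfsg.Agent.Lib.AutSL2 Cfsg.Agent.Lib.AutSL2Out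
open Cfsg.Agent.Omega.KM (IsIrr)

variable {F : Type*} [Field F]

local notation "SL2" => Matrix.SpecialLinearGroup (Fin 2) F

/-- `{a m - m}` -/
def im (M : Type*) [AddCommGroup M] {H : Type*} [Group H] [DistribMulAction H M] (a : H) : AddSubgroup M :=
  (DistribSMul.toAddMonoidHom M a - AddMonoidHom.id M).range

theorem mem_im {M : Type*} [AddCommGroup M] {H : Type*} [Group H] [DistribMulAction H M] {a : H} {x : M} :
    x ∈ im M a ↔ ∃ m : M, a • m - m = x := Iff.rfl

theorem smul_im {M : Type*} [AddCommGroup M] {H : Type*} [Group H] [DistribMulAction H M] {a d : H} {x : M}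
    (hx : x ∈ im M a) : d • x ∈ im M (d * a * d⁻¹) := by
  obtain ⟨m, rfl⟩ := mem_im.1 hx
  refine mem_im.2 ⟨d • m, ?_⟩
  rw [smul_sub, ← mul_smul, ← mul_smul]
  congr 2
  group

namespace Cfg

variable {H : Type*} {N : Type*} [Group H] [AddCommGroup N] [DistribMulAction H N]
  {ι : Matrix.SpecialLinearGroup (Fin 2) F →* H} {T A : Subgroup H} {v0 : N} [CharP F 2] [Fintype F]

/-- the elements `b` with `ι (up b) ∈ A` -/
def bb (ι : Matrix.SpecialLinearGroup (Fin 2) F →* H) (A : Subgroup H) : AddSubgroup F where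
  carrier := {b | ι (up b) ∈ A}
  add_mem' {x y} hx hy := by
    change ι (up (x + y)) ∈ A
    rw [← up_mul, map_mul]
    exact A.mul_mem hx hy
  zero_mem' := by
    change ι (up 0) ∈ A
    rw [up_zero, map_one]
    exact A.one_mem
  neg_mem' {x} hx := by
    change ι (up (-x)) ∈ A
    rw [← up_inv, map_inv]
    exact A.inv_mem hx

theorem mem_bb {b : F} : b ∈ bb ι A ↔ ι (up b) ∈ A := Iff.rfl

theorem card_bb [Finite H] [Finite N] [FaithfulSMul H N] (h : Cfg ι N T A v0) (h4 : 4 ≤ Nat.card F) :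
    Nat.card (bb ι A) = Nat.card A := by
  have hn := (h.natural h4).2
  refine Nat.card_congr (Equiv.ofBijective (fun b : bb ι A => (⟨ι (up b), b.2⟩ : A)) ⟨fun b c hbc => ?_, fun a => ?_⟩)
  · have := congrArg Subtype.val hbc
    exact Subtype.ext (up_inj (h.inj this))
  · obtain ⟨q, hq⟩ := hn a a.2
    exact ⟨⟨q, mem_bb.2 (hq ▸ a.2)⟩, Subtype.ext hq.symm⟩

theorem half [Finite H] [Finite N] [FaithfulSMul H N] (h : Cfg ι N T A v0) (h4 : 4 ≤ Nat.card F) :
    Nat.card F ≤ 2 * Nat.card A := by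
  obtain ⟨⟨e, he⟩, hA⟩ := h.natural h4
  obtain ⟨q, hq0, hq⟩ := h.exists_up h4
  have hne : ι (up q) ≠ 1 := fun e1 => hq0 (up_inj ((h.inj (e1.trans (map_one ι).symm)).trans up_zero.symm))
  have h1 := h.small _ hq hne
  let f : N →+ F := (Pi.evalAddMonoidHom (fun _ : Fin 2 => F) 1).comp e.toAddMonoidHom
  have hf : ∀ n, f n = e n 1 := fun n => rfl
  have hk : f.ker = fixN N (ι (up q)) := by
    ext n
    rw [AddMonoidHom.mem_ker, mem_fixN, hf]
    have h2 : e (ι (up q) • n) = ![e n 0 + q * e n 1, e n 1] := by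
      rw [he]
      have hg : (up q).1 = !![1, q; 0, 1] := rfl
      rw [hg]
      ext i
      fin_cases i <;> simp [Matrix.mulVec, dotProduct, Fin.sum_univ_two]
    constructor
    · intro h3
      apply e.injective
      rw [h2, h3]
      ext i
      fin_cases i
      · simp
      · simp [h3]
    · intro h3
      rw [h3] at h2
      have h4 := congrFun h2 0
      simp only [Matrix.cons_val_zero] at h4
      have h5 : q * e n 1 = 0 := by
        have := h4.symm
        rwa [add_eq_left] at this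
      exact (mul_eq_zero.1 h5).resolve_left hq0
  have hs : Function.Surjective f := fun x => ⟨e.symm ![0, x], by rw [hf, e.apply_symm_apply]; rfl⟩
  rw [← hk, AddSubgroup.index_ker, AddMonoidHom.range_eq_top.2 hs] at h1
  have h6 : Nat.card (⊤ : AddSubgroup F) = Nat.card F := Nat.card_congr AddSubgroup.topEquiv.toEquiv
  rwa [h6] at h1

theorem card_N_sq [Finite H] [Finite N] [FaithfulSMul H N] (h : Cfg ι N T A v0) (h4 : 4 ≤ Nat.card F) :
    Nat.card N = Nat.card F * Nat.card F := by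
  obtain ⟨⟨e, -⟩, -⟩ := h.natural h4
  rw [Nat.card_congr e.toEquiv, Nat.card_fun, Nat.card_eq_fintype_card (α := Fin 2), Fintype.card_fin, pow_two]

/-- **(P4)** -/
theorem lift_inj [Finite H] [Finite N] [FaithfulSMul H N] (h : Cfg ι N T A v0) (h4 : 4 ≤ Nat.card F)
    (hA4 : 4 ≤ Nat.card A) {M : Type*} [AddCommGroup M] [DistribMulAction H M] [Finite M] (p : M →+ N)
    (hp : Function.Surjective p) (hpe : ∀ (x : H) (m : M), p (x • m) = x • p m) (J : AddSubgroup M)
    (hJ : ∀ a ∈ A, ∀ m : M, a • m - m ∈ J) (hJC : ∀ m ∈ J, p m = 0 → m = 0)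
    (hsub : ∀ X : AddSubgroup M, (∀ x : H, ∀ m ∈ X, x • m ∈ X) → (∀ m ∈ X, p m = 0) ∨ X = ⊤) :
    Function.Injective p := by
  obtain ⟨⟨e, he⟩, hA⟩ := h.natural h4
  obtain ⟨q0, hq0, hqA⟩ := h.exists_up h4
  have hup : ∀ (b : F) (n : N), e (ι (up b) • n) = ![e n 0 + b * e n 1, e n 1] := by
    intro b n
    rw [he]
    have hg : (up b).1 = !![1, b; 0, 1] := rfl
    rw [hg]
    ext i
    fin_cases i <;> simp [Matrix.mulVec, dotProduct, Fin.sum_univ_two]
  have hup' : ∀ (b : F) (m : M), e (p (ι (up b) • m - m)) = ![b * e (p m) 1, 0] := by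
    intro b m
    rw [map_sub, hpe, map_sub, hup]
    ext i
    fin_cases i <;> simp
  have hinj : ∀ m ∈ J, ∀ m' ∈ J, e (p m) = e (p m') → m = m' := by
    intro m hm m' hm' hmm
    have := hJC _ (J.sub_mem hm hm') (by rw [map_sub, e.injective hmm, sub_self])
    exact sub_eq_zero.1 this
  -- `[M, a] = [M, a']`
  have him : ∀ b b' : F, b' ≠ 0 → ι (up b) ∈ A → ι (up b') ∈ A → im M (ι (up b)) ≤ im M (ι (up b')) := by
    intro b b' hb' hbA hbA' x hx
    obtain ⟨m, rfl⟩ := mem_im.1 hx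
    obtain ⟨m', hm'⟩ := hp (e.symm ![0, b * e (p m) 1 / b'])
    refine mem_im.2 ⟨m', hinj _ (hJ _ hbA' _) _ (hJ _ hbA _) ?_⟩
    rw [hup', hup', hm', e.apply_symm_apply]
    congr 1
    change b' * (b * e (p m) 1 / b') = _
    field_simp
  -- the torus normalises `[M, A]`
  have hBt : ∀ t : F, t ≠ 0 → ∃ b, b ≠ 0 ∧ ι (up b) ∈ A ∧ ι (up (t ^ 2 * b)) ∈ A := by
    intro t ht
    by_contra hcon
    push Not at hcon
    have h1 : Function.Injective fun x : bb ι A × bb ι A => (x.1 : F) - t ^ 2 * (x.2 : F) := by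
      rintro ⟨⟨b, hb⟩, ⟨c, hc⟩⟩ ⟨⟨b', hb'⟩, ⟨c', hc'⟩⟩ hbc
      simp only at hbc
      have h2 : b - b' = t ^ 2 * (c - c') := by linear_combination hbc
      have h3 : c - c' = 0 := by
        by_contra hne
        refine hcon _ hne (mem_bb.1 ((bb ι A).sub_mem hc hc')) ?_
        rw [← h2]
        exact mem_bb.1 ((bb ι A).sub_mem hb hb')
      rw [h3, mul_zero] at h2
      simp only [Prod.mk.injEq, Subtype.mk.injEq]
      exact ⟨sub_eq_zero.1 h2, sub_eq_zero.1 h3⟩
    have h2 := Nat.card_le_card_of_injective _ h1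
    rw [Nat.card_prod, h.card_bb h4] at h2
    have h3 := h.half h4
    nlinarith
  set Z0 : AddSubgroup M := im M (ι (up q0)) with hZ0
  have hZJ : Z0 ≤ J := fun x hx => by
    obtain ⟨m, rfl⟩ := mem_im.1 hx
    exact hJ _ hqA m
  have hdZ : ∀ (t : F) (ht : t ≠ 0), ∀ x ∈ Z0, ι (dg t ht) • x ∈ Z0 := by
    intro t ht x hx
    obtain ⟨b, hb0, hbA, hbA'⟩ := hBt t ht
    have h1 := smul_im (d := ι (dg t ht)) (him _ _ hb0 hqA hbA hx)
    rw [← map_mul, ← map_inv, ← map_mul, dg_up, mul_inv_cancel_right] at h1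
    exact him _ _ hq0 hbA' hqA h1
  have hU : ∀ (b : F) (m : M), ι (up b) • m - m ∈ Z0 := by
    intro b m
    by_cases hb : b = 0
    · rw [hb, up_zero, map_one, one_smul, sub_self]
      exact Z0.zero_mem
    · obtain ⟨t, ht⟩ : ∃ t : F, t ^ 2 = b / q0 := by
        have hs : Function.Surjective (fun x : F => x ^ 2) := Finite.surjective_of_injective (frobenius_inj F 2)
        exact hs _
      have ht0 : t ≠ 0 := by
        rintro rfl
        have : b / q0 = 0 := by rw [← ht]; simp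
        exact (div_ne_zero hb hq0) this
      have h1 : up b = dg t ht0 * up q0 * (dg t ht0)⁻¹ := by
        rw [dg_up, mul_inv_cancel_right, ht, div_mul_cancel₀ b hq0]
      have h2 : ι (up b) • m - m = ι (dg t ht0) • (ι (up q0) • ((ι (dg t ht0))⁻¹ • m) - (ι (dg t ht0))⁻¹ • m) := by
        rw [smul_sub, smul_inv_smul, h1, map_mul, map_mul, map_inv, mul_smul, mul_smul]
      rw [h2]
      exact hdZ t ht0 _ (mem_im.2 ⟨_, rfl⟩)
  set w := ι (wm (1 : F) one_ne_zero) with hw
  set Z1 : AddSubgroup M := tr w⁻¹ Z0 with hZ1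
  have hlo : ∀ (b : F) (m : M), ι (lo b) • m - m ∈ Z1 := by
    intro b m
    rw [hZ1, mem_tr, inv_inv, smul_sub, ← mul_smul, hw, ← map_mul, wm_lo, map_mul, mul_smul]
    exact hU _ _
  have hX : ∀ (g : SL2) (m : M), ι g • m - m ∈ Z0 ⊔ Z1 := by
    intro g m
    obtain ⟨a, b, c, d, rfl⟩ := exists_up_lo g
    have e1 : ι (up a * lo b * up c * lo d) • m - m =
        (ι (up a) • (ι (lo b) • ι (up c) • ι (lo d) • m) - ι (lo b) • ι (up c) • ι (lo d) • m) +
        (ι (lo b) • (ι (up c) • ι (lo d) • m) - ι (up c) • ι (lo d) • m) +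
        (ι (up c) • (ι (lo d) • m) - ι (lo d) • m) + (ι (lo d) • m - m) := by
      simp only [map_mul, mul_smul]
      abel
    rw [e1]
    exact add_mem (add_mem (add_mem (AddSubgroup.mem_sup_left (hU _ _)) (AddSubgroup.mem_sup_right (hlo _ _)))
      (AddSubgroup.mem_sup_left (hU _ _))) (AddSubgroup.mem_sup_right (hlo _ _))
  have htop : Z0 ⊔ Z1 = ⊤ := by
    set Y : AddSubgroup M := AddSubgroup.closure {x | ∃ (g : SL2) (m : M), x = ι g • m - m} with hY
    have hYX : Y ≤ Z0 ⊔ Z1 := by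
      rw [hY, AddSubgroup.closure_le]
      rintro x ⟨g, m, rfl⟩
      exact hX g m
    rcases hsub Y (fun x m hm => by
      induction hm using AddSubgroup.closure_induction with
      | mem m hm =>
        obtain ⟨g, m, rfl⟩ := hm
        obtain ⟨g', hg'⟩ := h.normal.conj_mem (ι g) ⟨g, rfl⟩ x
        refine AddSubgroup.subset_closure ⟨g', x • m, ?_⟩
        rw [hg', smul_sub, ← mul_smul, ← mul_smul]
        congr 2
        group
      | zero => rw [smul_zero]; exact Y.zero_mem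
      | add a b _ _ ha hb => rw [smul_add]; exact Y.add_mem ha hb
      | neg a _ ha => rw [smul_neg]; exact Y.neg_mem ha) with h1 | h1
    · exfalso
      obtain ⟨m, hm⟩ := hp (e.symm ![0, 1])
      have h2 := h1 _ (AddSubgroup.subset_closure ⟨up q0, m, rfl⟩)
      have h3 := hup' q0 m
      rw [h2, map_zero, hm, e.apply_symm_apply] at h3
      have h5 := congrFun h3 0
      simp at h5
      exact hq0 h5.symm
    · exact top_le_iff.1 (h1 ▸ hYX)
  have hcZ : Nat.card Z0 ≤ Nat.card F := by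
    refine Nat.card_le_card_of_injective (fun x : Z0 => e (p x) 0) fun x y hxy => ?_
    have h1 : ∀ x ∈ Z0, e (p x) 1 = 0 := by
      intro x hx
      obtain ⟨m, rfl⟩ := mem_im.1 hx
      rw [hup']
      rfl
    refine Subtype.ext (hinj _ (hZJ x.2) _ (hZJ y.2) ?_)
    ext i
    fin_cases i
    · exact hxy
    · change e (p x) 1 = e (p y) 1
      rw [h1 _ x.2, h1 _ y.2]
  have hcM : Nat.card M ≤ Nat.card F * Nat.card F := by
    have h1 : Function.Surjective fun x : Z0 × Z1 => (x.1 : M) + (x.2 : M) := by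
      intro m
      have hm : m ∈ Z0 ⊔ Z1 := by rw [htop]; trivial
      obtain ⟨y, hy, z, hz, rfl⟩ := AddSubgroup.mem_sup.1 hm
      exact ⟨(⟨y, hy⟩, ⟨z, hz⟩), rfl⟩
    have h2 := Nat.card_le_card_of_surjective _ h1
    rw [Nat.card_prod] at h2
    have h3 : Nat.card Z1 = Nat.card Z0 := card_tr _ _
    rw [h3] at h2
    exact h2.trans (Nat.mul_le_mul hcZ hcZ)
  rw [← h.card_N_sq h4] at hcM
  exact ((Nat.bijective_iff_surjective_and_card p).2 ⟨hp, le_antisymm hcM (Nat.card_le_card_of_surjective p hp)⟩).1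

end Cfg

end Cfsg.Agent.Omega.NO3S.SLTwo
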