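import Cfsg.Agent.Omega.NO3S.SLTwo.Rep
import Cfsg.Agent.Omega.NO3S.SLTwo.Lift
import Cfsg.Agent.Omega.RuShape.Final

/-!
# NO-3S, `q = 2`, `n = 1`, a normal subgroup `SL₂(F)` of `H`, `|F| ≥ 4`, not centralised by `A` ((A1) of helper881's #13700)

`h : One T V z`, `R : MRep V cg z M H`, `ι : SL(2,F) → H` injective with normal image, `[A, ι] ≠ 1`.

* `exists_iota` : `ι` may be chosen with `ι⁻¹(T) = U`;
* `exists_cfg` : `M / C_M(H⁰)` is a configuration `Cfg`;
* `false_of` : impossible if `|A| ≥ 4` (`M` is natural, `RuShape.natural_false`), or if `C_M(H⁰) = 0`;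
* `A_of` : otherwise `|F| = 4`, `|A| = 2`, `C_M(H⁰) ≠ 0`.
-/

set_option autoImplicit false
set_option linter.unusedSectionVars false

namespace Cfsg.Agent.Omega.NO3S.SLTwo

open Subgroup Cfsg Cfsg.Agent.ZN Cfsg.Agent.MinSimple.Geo Cfsg.Agent.Omega.CaseL
open Cfsg.Agent.Omega.NO3S.Fit Cfsg.Agent.Omega.NO3S.TwoOne
open Cfsg.Agent.Lib.SL2Mat Cfsg.Agent.Lib.AutSL2
open Cfsg.Agent.ZN.Block (conj_mem_of_normalizer conj_mem_of_normalizer' le_normalizer_of_forall
  mem_normalizer_of)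

universe u

/-- `ι` may be chosen with `ι⁻¹(T) = U` -/
theorem exists_iota {F : Type*} [Field F] [Finite F] [CharP F 2] {H : Type*} [Group H] [Finite H]
    (ι : Matrix.SpecialLinearGroup (Fin 2) F →* H) (hi : Function.Injective ι) (S : Sylow 2 H) :
    ∃ x : H, ∀ g, x * ι g * x⁻¹ ∈ (S : Subgroup H) ↔ g ∈ upG F := by
  have : Fact (Nat.Prime 2) := ⟨Nat.prime_two⟩
  obtain ⟨Q, hQ⟩ := (sylU F 2).exists_comap_eq_of_injective hi
  obtain ⟨x, hx⟩ := MulAction.exists_smul_eq H Q S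
  refine ⟨x, fun g => ?_⟩
  have h1 : x * ι g * x⁻¹ ∈ (S : Subgroup H) ↔ x * ι g * x⁻¹ ∈ S := Iff.rfl
  rw [h1, ← hx, mem_smul_sylow]
  have e : x⁻¹ * (x * ι g * x⁻¹) * x = ι g := by group
  rw [e]
  have h2 : g ∈ (Q : Subgroup H).comap ι ↔ g ∈ upG F := by
    rw [hQ]
    rfl
  exact h2

variable {G : Type u} [Group G] {T V : Subgroup G} {z : G} {M H : Type u} [AddCommGroup M] [Group H]
  [DistribMulAction H M]

section app

variable (h : One T V z) (R : MRep V cg z M H) [Finite G]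
include h

theorem img_le_T {y : G} (hy : y ∈ V) (hy1 : y ≠ 1) : R.img (ww V cg y) ≤ R.img T := by
  have hle : ww V cg y ≤ cg z := by rw [h.ww_cg hy hy1]; exact h.ws_le_cg hy hy1
  intro x hx
  obtain ⟨w, hw, rfl⟩ := (R.mem_img hle).1 hx
  exact (R.mem_img h.fam.T_le_cf).2 ⟨w, h.fam.ww_le_T' hy hy1 hw, rfl⟩

theorem norm_img {y : G} (hy : y ∈ V) (hy1 : y ≠ 1) (hyz : y ≠ z) {x : H} (hx : x • R.pi y = R.pi y) {a : H}
    (ha : a ∈ R.img (ww V cg y)) : x * a * x⁻¹ ∈ R.img (ww V cg y) := by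
  have hle : ww V cg y ≤ cg z := by rw [h.ww_cg hy hy1]; exact h.ws_le_cg hy hy1
  obtain ⟨w, hw, rfl⟩ := (R.mem_img hle).1 ha
  obtain ⟨w', hw', e, -⟩ := R.norm_A h.fam hy hy1 hy hy1 hyz hx hw
  rw [e]
  exact (R.mem_img hle).2 ⟨w', hw', rfl⟩

theorem sq_img {y : G} (hy : y ∈ V) (hy1 : y ≠ 1) {a : H} (ha : a ∈ R.img (ww V cg y)) : a * a = 1 := by
  have hle : ww V cg y ≤ cg z := by rw [h.ww_cg hy hy1]; exact h.ws_le_cg hy hy1
  obtain ⟨w, hw, rfl⟩ := (R.mem_img hle).1 ha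
  exact R.sq_A h.fam hy hy1 hw

theorem quad_img {y : G} (hy : y ∈ V) (hy1 : y ≠ 1) (hyz : y ≠ z) {a b : H} (ha : a ∈ R.img (ww V cg y))
    (hb : b ∈ R.img (ww V cg y)) (m : M) : a • (b • m - m) = b • m - m := by
  have hle : ww V cg y ≤ cg z := by rw [h.ww_cg hy hy1]; exact h.ws_le_cg hy hy1
  obtain ⟨w, hw, rfl⟩ := (R.mem_img hle).1 ha
  obtain ⟨v, hv, rfl⟩ := (R.mem_img hle).1 hb
  obtain ⟨u, hu, rfl⟩ := R.pi_surj m
  exact R.quad h.fam hy hy1 hyz hw hv hu

variable {F : Type*} [Field F] [Finite F] [CharP F 2] {ι : Matrix.SpecialLinearGroup (Fin 2) F →* H}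

/-- `ι(SL₂(F))` is trivial on `C_M(H⁰)` -/
theorem iota_cc (h4 : 4 ≤ Nat.card F) (hn : ι.range.Normal) {y : G} (hy : y ∈ V)
    (hy1 : y ≠ 1) (hyz : y ≠ z) (hnc : ∃ a ∈ R.img (ww V cg y), ∃ g, a * ι g ≠ ι g * a) (g) {m : M}
    (hm : m ∈ cc h R) : ι g • m = m := by
  obtain ⟨a, ha, g0, hg0⟩ := hnc
  let K : Subgroup H :=
    { carrier := {x | ∀ m ∈ cc h R, x • m = m}
      mul_mem' := fun {x y} hx hy m hm => by rw [mul_smul, hy m hm, hx m hm]
      one_mem' := fun m _ => one_smul _ m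
      inv_mem' := fun {x} hx m hm => by rw [inv_smul_eq_iff, hx m hm] }
  have hK : K.Normal := ⟨fun x hx s m hm => by
    rw [mul_smul, mul_smul, hx _ (cc_inv h R s⁻¹ hm), smul_inv_smul]⟩
  have hL : (K.comap ι).Normal := hK.comap ι
  obtain ⟨s, hs⟩ := hn.conj_mem (ι g0) ⟨g0, rfl⟩ a
  have h1 : s * g0⁻¹ ∈ K.comap ι := by
    rw [mem_comap, map_mul, hs, map_inv]
    have e : a * ι g0 * a⁻¹ * (ι g0)⁻¹ = (1 * a * 1⁻¹) * (ι g0 * a⁻¹ * (ι g0)⁻¹) := by group
    rw [e]
    exact K.mul_mem (fun m hm => comm_cc h R hy hy1 hyz 1 ha hm)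
      (fun m hm => comm_cc h R hy hy1 hyz _ (inv_mem ha) hm)
  have h2 : K.comap ι ≠ ⊥ := by
    intro e
    rw [e, mem_bot, mul_inv_eq_one] at h1
    apply hg0
    rw [h1] at hs
    nth_rewrite 2 [hs]
    group
  have h3 := eq_top_of_normal h4 hL h2
  have h4 : g ∈ K.comap ι := by rw [h3]; trivial
  exact h4 m hm

/-- `M / C_M(H⁰)` is a configuration -/
theorem cfg_of [Finite M] [Finite H] (h4 : 4 ≤ Nat.card F) (hi : Function.Injective ι) (hn : ι.range.Normal) {y : G}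
    (hy : y ∈ V) (hy1 : y ≠ 1) (hyz : y ≠ z) (hnc : ∃ a ∈ R.img (ww V cg y), ∃ g, a * ι g ≠ ι g * a)
    (hT : ∀ g, ι g ∈ R.img T ↔ g ∈ upG F) {N : Type u} [AddCommGroup N] [DistribMulAction H N] (p : M →+ N)
    (hp : Function.Surjective p) (hk : p.ker = cc h R) (hpe : ∀ (x : H) (m : M), p (x • m) = x • p m) :
    Cfg ι N (R.img T) (R.img (ww V cg y)) (p (R.pi y)) where
  inj := hi
  normal := hn
  two := fun n => by
    obtain ⟨m, rfl⟩ := hp n
    rw [← map_add, R.two h.fam, map_zero]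
  irr := fun X hX => by
    rcases sub_cc h R (X := X.comap p) (fun x m hm => by
      rw [AddSubgroup.mem_comap] at hm ⊢
      rw [hpe]
      exact hX _ _ hm) with e | e
    · left
      rw [eq_bot_iff]
      intro n hnX
      obtain ⟨m, rfl⟩ := hp n
      have := e (AddSubgroup.mem_comap.2 hnX)
      rw [← hk] at this
      exact this
    · right
      rw [eq_top_iff]
      intro n _
      obtain ⟨m, rfl⟩ := hp n
      have : m ∈ X.comap p := by rw [e]; trivial
      exact this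
  up_mem := fun b => (hT _).2 (Cfsg.Agent.Lib.AutSL2.up_mem b)
  of_mem := fun g hg => by
    obtain ⟨b, hb⟩ := mem_upG.1 ((hT g).1 hg)
    exact ⟨b, hb.symm⟩
  le := img_le_T h R hy hy1
  T_norm := fun t ht a ha => norm_img h R hy hy1 hyz (R.img_T_fix h.fam hy hy1 hyz ht) ha
  sq := fun a ha => sq_img h R hy hy1 ha
  quad := fun a ha b hb n => by
    obtain ⟨m, rfl⟩ := hp n
    rw [← hpe, ← map_sub, ← hpe, quad_img h R hy hy1 hyz ha hb]
  small := fun a ha _ => by
    have hle : ww V cg y ≤ cg z := by rw [h.ww_cg hy hy1]; exact h.ws_le_cg hy hy1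
    obtain ⟨w, hw, rfl⟩ := (R.mem_img hle).1 ha
    rw [← AddSubgroup.index_comap_of_surjective _ hp]
    rw [h.ww_cg hy hy1] at hw
    refine index_fix h R hy hy1 hyz hw fun m hm => ?_
    rw [AddSubgroup.mem_comap, mem_fixN, ← hpe, hm]
  nc := hnc
  v_ne := fun e => v0_not_mem h R hy hy1 hyz (hk ▸ e)
  v_fix := fun b => by
    rw [← hpe, R.img_T_fix h.fam hy hy1 hyz ((hT _).2 (Cfsg.Agent.Lib.AutSL2.up_mem b))]
  odd_norm := fun g hg hgv a ha => by
    refine norm_img h R hy hy1 hyz ?_ ha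
    rw [← hpe] at hgv
    have h1 : ι g • R.pi y - R.pi y ∈ cc h R := by
      rw [← hk, AddMonoidHom.mem_ker, map_sub, hgv, sub_self]
    have h2 : ∀ n : ℕ, ι g ^ n • R.pi y = R.pi y + n • (ι g • R.pi y - R.pi y) := by
      intro n
      induction n with
      | zero => simp
      | succ n ih =>
        have h3 := iota_cc h R h4 hn hy hy1 hyz hnc g (AddSubgroup.nsmul_mem _ h1 n)
        rw [pow_succ', mul_smul, ih, smul_add, h3, succ_nsmul]
        abel
    have h3 := h2 (orderOf g)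
    rw [← map_pow, pow_orderOf_eq_one, map_one, one_smul] at h3
    obtain ⟨k, hk'⟩ := hg
    rw [hk', add_nsmul, mul_comm, mul_nsmul', two_nsmul, R.two h.fam, nsmul_zero, zero_add, one_nsmul] at h3
    have h5 : ι g • R.pi y - R.pi y = 0 := by
      have := h3.symm
      rwa [add_eq_left] at this
    exact sub_eq_zero.1 h5

/-- the natural section -/
def natSec [FaithfulSMul H M] (hn : ι.range.Normal) (e : M ≃+ (Fin 2 → F))
    (he : ∀ g m, e (ι g • m) = Matrix.mulVec g.1 (e m)) :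
    SQ1.FFOne.NatSec F (centralizer ({z} : Set G)) (ws V z) (zpowers z) :=
  have hap : ∀ (A : Matrix.SpecialLinearGroup (Fin 2) F) (x : Fin 2 → F), NatPair.ap A x = Matrix.mulVec A.1 x := by
    intro A x
    ext i
    fin_cases i <;> simp [NatPair.ap, Matrix.mulVec, dotProduct, Fin.sum_univ_two, ent]
  { π := fun g => e (R.pi g)
    map_mul := fun v hv w hw => by rw [pi_mul' h R hv hw, map_add]
    V0V := zpowers_le_of_mem (h.ln.V_le_ws h.ln.z_mem)
    ker := fun v hv => by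
      rw [map_eq_zero_iff e e.injective, pi_ker' h R hv, mem_zpowers_iff_of_mul_self h.ln.zz]
    surj := fun x => by
      obtain ⟨w, hw, hw1⟩ := pi_surj' h R (e.symm x)
      exact ⟨w, hw, by rw [hw1, e.apply_symm_apply]⟩
    Vn := fun c hc v hv => conj_ws_z h hc hv
    V0n := fun c hc v hv => by
      rw [conj_zpowers hc hv]
      exact hv
    lift := fun A => by
      obtain ⟨c, hc, hc1⟩ := R.phi_surj (ι A)
      refine ⟨c, hc, fun v hv => ?_⟩
      rw [← act' h R hc hv, hc1, he, hap]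
    norm := fun g hg c hc A hA => by
      have h1 : R.phi c = ι A := by
        apply FaithfulSMul.eq_of_smul_eq_smul (α := M)
        intro m
        obtain ⟨v, hv, rfl⟩ := pi_surj' h R m
        apply e.injective
        rw [act' h R hc hv, hA v hv, he, hap]
      obtain ⟨B, hB⟩ := hn.conj_mem (ι A) ⟨A, rfl⟩ (R.phi g)
      refine ⟨B, fun v hv => ?_⟩
      have hg' : g ∈ cg z := hg
      have hc' : c ∈ cg z := hc
      have hgc : g * c * g⁻¹ ∈ cg z := mul_mem (mul_mem hg' hc') (inv_mem hg')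
      have h2 : R.phi (g * c * g⁻¹) = ι B := by
        rw [hB, R.phi_mul _ (mul_mem hg' hc') _ (inv_mem hg'), R.phi_mul g hg' c hc', R.phi_inv hg', h1]
      rw [← act' h R hgc hv, h2, he, hap] }

/-- **(A1)** -/
theorem A_of [Finite M] [Finite H] [FaithfulSMul H M]
    (core : ∀ U : Subgroup G, IsPGroup 2 U → normalizer (V : Set G) ≤ normalizer (U : Set G) →
      centralizer ({z} : Set G) ≤ normalizer (U : Set G) → U = ⊥)
    (h4 : 4 ≤ Nat.card F) (hi : Function.Injective ι) (hn : ι.range.Normal) {y : G}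
    (hy : y ∈ V) (hy1 : y ≠ 1) (hyz : y ≠ z) (hnc : ∃ a ∈ R.img (ww V cg y), ∃ g, a * ι g ≠ ι g * a) :
    Nat.card F = 4 ∧ Nat.card (R.img (ww V cg y)) = 2 ∧ cc h R ≠ ⊥ := by
  have hfact : Fact (Nat.Prime 2) := ⟨Nat.prime_two⟩
  have hfF : Fintype F := Fintype.ofFinite F
  let S : Sylow 2 H := (R.img_T_two h.fam).toSylow (R.img_T_index h.fam)
  obtain ⟨x, hx⟩ := exists_iota ι hi S
  obtain ⟨κ, hκ⟩ : ∃ κ : Matrix.SpecialLinearGroup (Fin 2) F →* H, ∀ g, κ g = x * ι g * x⁻¹ :=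
    ⟨(MulAut.conj x).toMonoidHom.comp ι, fun g => rfl⟩
  have hκi : Function.Injective κ := fun a b hab => by
    rw [hκ, hκ] at hab
    exact hi (by simpa using hab)
  have hr : κ.range = ι.range := by
    apply le_antisymm
    · rintro _ ⟨g, rfl⟩
      rw [hκ]
      exact hn.conj_mem _ ⟨g, rfl⟩ x
    · rintro _ ⟨g, rfl⟩
      obtain ⟨g', hg'⟩ := hn.conj_mem (ι g) ⟨g, rfl⟩ x⁻¹
      refine ⟨g', ?_⟩
      rw [hκ, hg']
      group
  have hκn : κ.range.Normal := hr ▸ hn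
  have hκc : ∃ a ∈ R.img (ww V cg y), ∃ g, a * κ g ≠ κ g * a := by
    by_contra hcon
    push Not at hcon
    obtain ⟨a, ha, g, hg⟩ := hnc
    have : ι g ∈ κ.range := by rw [hr]; exact ⟨g, rfl⟩
    obtain ⟨g', hg'⟩ := this
    exact hg (by rw [← hg']; exact hcon a ha g')
  have hκT : ∀ g, κ g ∈ R.img T ↔ g ∈ upG F := fun g => by
    rw [hκ]
    exact hx g
  obtain ⟨N, _, _, p, hp, hk, hpe⟩ := exists_quot (H := H) (cc h R) (fun x m hm => cc_inv h R x hm)
  have hfinN : Finite N := Finite.of_surjective p hp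
  have hfaith : FaithfulSMul H N := ⟨fun {a b} hab => by
    rw [← inv_mul_eq_one]
    refine faithful_cc h R fun m => ?_
    rw [← hk, AddMonoidHom.mem_ker, map_sub, hpe, mul_smul, ← hab (p m), inv_smul_smul, sub_self]⟩
  have hcfg := cfg_of h R h4 hκi hκn hy hy1 hyz hκc hκT p hp hk hpe
  have hbot : cc h R ≠ ⊥ := by
    intro hb
    have hpi : Function.Injective p := by
      rw [← AddMonoidHom.ker_eq_bot_iff, hk, hb]
    obtain ⟨⟨e, he⟩, -⟩ := hcfg.natural h4
    let q : M ≃+ N := AddEquiv.ofBijective p ⟨hpi, hp⟩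
    refine RuShape.natural_false h core (natSec h R hκn (q.trans e) fun g m => ?_) h4
    change e (p (κ g • m)) = _
    rw [hpe, he]
    rfl
  have hA4 : ¬ 4 ≤ Nat.card (R.img (ww V cg y)) := by
    intro hA
    apply hbot
    rw [← hk, AddMonoidHom.ker_eq_bot_iff]
    refine hcfg.lift_inj h4 hA p hp hpe (jm h R) (fun a ha m => comm_mem_jm h R hy hy1 hyz ha m)
      (fun m hm hm0 => ?_) fun X hX => ?_
    · refine jm_cc h R hm ?_
      rw [← hk]
      exact hm0
    · rcases sub_cc h R hX with e | e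
      · left
        intro m hm
        have := e hm
        rw [← hk] at this
        exact this
      · right; exact e
  have hhalf := hcfg.half h4
  have hdvd : Nat.card (R.img (ww V cg y)) ∣ Nat.card F := by
    rw [← hcfg.card_bb h4]
    exact AddSubgroup.card_addSubgroup_dvd_card _
  obtain ⟨m, -, hm⟩ := FiniteField.card F 2
  rw [Nat.card_eq_fintype_card (α := F), hm] at hdvd
  obtain ⟨k, -, hk2⟩ := (Nat.dvd_prime_pow Nat.prime_two).1 hdvd
  have hk1 : k = 1 := by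
    rcases Nat.lt_trichotomy k 1 with hk3 | hk3 | hk3
    · have : k = 0 := by omega
      rw [this, pow_zero] at hk2
      omega
    · exact hk3
    · exfalso
      apply hA4
      rw [hk2]
      calc 4 = 2 ^ 2 := by norm_num
        _ ≤ 2 ^ k := Nat.pow_le_pow_right (by norm_num) hk3
  rw [hk1, pow_one] at hk2
  exact ⟨by omega, hk2, hbot⟩

end app

end Cfsg.Agent.Omega.NO3S.SLTwo
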