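import Cfsg.Agent.Omega.NO3S.TwoOne.PlaneKF
import Cfsg.Agent.Omega.NO3S.Fit.FourMod

/-!
# NO-3S, `q = 2`, `n = 1`: `M = W_z/⟨z⟩` and its submodules, in the language of `MRep`

`h : One T V z`, `R : MRep V cg z M H`.

* `toW h R X` : the preimage of `X ≤ M` in `W_z`; `cc h R` : the image of `cm V z`, i.e. `C_M(H⁰)`;
* `sub_cc` : a proper submodule of `M` is in `cc h R`; `faithful_cc` : `M / cc h R` is faithful; `comm_cc` : the conjugates of
  `A` are trivial on `cc h R`; `v0_not_mem` : `R.pi y ∉ cc h R`;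
* `jm h R` : the image of `ii V`; `comm_mem_jm` : `[M, A] ≤ jm h R`; `jm_cc` : `jm h R ∩ cc h R = 0`;
* `card_img` : `|A| = |W_y : E_y|`; `index_fix` : `|M : C_M(a)| ≤ 2|A|`;
* `exists_quot` : quotient modules.
-/

set_option autoImplicit false
set_option linter.unusedSectionVars false

namespace Cfsg.Agent.Omega.NO3S.SLTwo

open Subgroup Cfsg Cfsg.Agent.ZN Cfsg.Agent.MinSimple.Geo Cfsg.Agent.Omega.CaseL
open Cfsg.Agent.Omega.NO3S.Fit Cfsg.Agent.Omega.NO3S.TwoOne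
open Cfsg.Agent.ZN.Block (conj_mem_of_normalizer conj_mem_of_normalizer' le_normalizer_of_forall
  mem_normalizer_of)
open scoped commutatorElement

universe u

variable {G : Type u} [Group G] {T V : Subgroup G} {z : G} {M H : Type u} [AddCommGroup M] [Group H]
  [DistribMulAction H M]

section basic

variable (h : One T V z) (R : MRep V cg z M H) [Finite G]
include h

theorem ws_eq : ww V cg z = ws V z := h.ww_cg h.ln.z_mem h.ln.z_ne

theorem pi_mul' {a b : G} (ha : a ∈ ws V z) (hb : b ∈ ws V z) : R.pi (a * b) = R.pi a + R.pi b := by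
  rw [← ws_eq h] at ha hb
  exact R.pi_mul a ha b hb

theorem pi_inv' {a : G} (ha : a ∈ ws V z) : R.pi a⁻¹ = - R.pi a := by
  rw [← ws_eq h] at ha
  exact R.pi_inv h.fam ha

theorem pi_surj' (m : M) : ∃ w ∈ ws V z, R.pi w = m := by
  obtain ⟨w, hw, e⟩ := R.pi_surj m
  rw [ws_eq h] at hw
  exact ⟨w, hw, e⟩

theorem pi_ker' {w : G} (hw : w ∈ ws V z) : R.pi w = 0 ↔ w = 1 ∨ w = z := by
  rw [← ws_eq h] at hw
  exact R.pi_ker w hw

theorem act' {c w : G} (hc : c ∈ centralizer ({z} : Set G)) (hw : w ∈ ws V z) :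
    R.phi c • R.pi w = R.pi (c * w * c⁻¹) := by
  rw [← ws_eq h] at hw
  exact R.act c hc w hw

theorem conj_ws_z {c w : G} (hc : c ∈ centralizer ({z} : Set G)) (hw : w ∈ ws V z) : c * w * c⁻¹ ∈ ws V z := by
  have := conj_mem_ws c hw
  rwa [conj_eq_of_comm (mem_centralizer_singleton_iff.mp hc)] at this

theorem comm_pi {c w : G} (hc : c ∈ centralizer ({z} : Set G)) (hw : w ∈ ws V z) :
    R.phi c • R.pi w - R.pi w = R.pi (c * w * c⁻¹ * w⁻¹) := by
  rw [act' h R hc hw, pi_mul' h R (conj_ws_z h hc hw) (inv_mem hw), pi_inv' h R hw, sub_eq_add_neg]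

/-- the preimage of a subgroup of `M` in `W_z` -/
def toW (X : AddSubgroup M) : Subgroup G where
  carrier := {w | w ∈ ws V z ∧ R.pi w ∈ X}
  mul_mem' := by
    rintro a b ⟨ha, ha1⟩ ⟨hb, hb1⟩
    refine ⟨mul_mem ha hb, ?_⟩
    rw [pi_mul' h R ha hb]
    exact X.add_mem ha1 hb1
  one_mem' := ⟨one_mem _, by
    rw [(pi_ker' h R (one_mem _)).2 (Or.inl rfl)]
    exact X.zero_mem⟩
  inv_mem' := by
    rintro a ⟨ha, ha1⟩
    refine ⟨inv_mem ha, ?_⟩
    rw [pi_inv' h R ha]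
    exact X.neg_mem ha1

theorem mem_toW {X : AddSubgroup M} {w : G} : w ∈ toW h R X ↔ w ∈ ws V z ∧ R.pi w ∈ X := Iff.rfl

theorem isSub_toW {X : AddSubgroup M} (hX : ∀ x : H, ∀ m ∈ X, x • m ∈ X) : IsSub V z (toW h R X) where
  z_mem := by
    have hz := h.ln.V_le_ws h.ln.z_mem
    refine ⟨hz, ?_⟩
    rw [(pi_ker' h R hz).2 (Or.inr rfl)]
    exact X.zero_mem
  le := fun w hw => hw.1
  norm := by
    refine le_normalizer_of_forall fun c hc w hw => ⟨conj_ws_z h hc hw.1, ?_⟩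
    rw [← act' h R hc hw.1]
    exact hX _ _ hw.2

/-- the image of a subgroup of `W_z` in `M` -/
def toM (Y : Subgroup G) (hY : Y ≤ ws V z) : AddSubgroup M where
  carrier := {m | ∃ w ∈ Y, R.pi w = m}
  add_mem' := by
    rintro _ _ ⟨a, ha, rfl⟩ ⟨b, hb, rfl⟩
    exact ⟨a * b, mul_mem ha hb, pi_mul' h R (hY ha) (hY hb)⟩
  zero_mem' := ⟨1, one_mem _, (pi_ker' h R (one_mem _)).2 (Or.inl rfl)⟩
  neg_mem' := by
    rintro _ ⟨a, ha, rfl⟩
    exact ⟨a⁻¹, inv_mem ha, pi_inv' h R (hY ha)⟩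

theorem mem_toM {Y : Subgroup G} {hY : Y ≤ ws V z} {m : M} : m ∈ toM h R Y hY ↔ ∃ w ∈ Y, R.pi w = m := Iff.rfl

theorem pi_eq' {a b : G} (ha : a ∈ ws V z) (hb : b ∈ ws V z) : R.pi a = R.pi b ↔ a = b ∨ a = z * b := by
  rw [← ws_eq h] at ha hb
  exact R.pi_eq h.fam ha hb

theorem pi_mem_toM {Y : Subgroup G} (hY : Y ≤ ws V z) (hz : z ∈ Y) {w : G} (hw : w ∈ ws V z) :
    R.pi w ∈ toM h R Y hY ↔ w ∈ Y := by
  constructor
  · rintro ⟨v, hv, e⟩
    rcases (pi_eq' h R hw (hY hv)).1 e.symm with e | e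
    · rw [e]; exact hv
    · rw [e]; exact mul_mem hz hv
  · exact fun hw => ⟨w, hw, rfl⟩

/-- the image of `cm V z`, i.e. `C_M(H⁰)` -/
def cc : AddSubgroup M := toM h R (cm V z) (cm_le V z)

theorem pi_mem_cc {w : G} (hw : w ∈ ws V z) : R.pi w ∈ cc h R ↔ w ∈ cm V z :=
  pi_mem_toM h R _ h.isSub_cm.z_mem hw

theorem cc_inv (x : H) {m : M} (hm : m ∈ cc h R) : x • m ∈ cc h R := by
  obtain ⟨w, hw, rfl⟩ := hm
  obtain ⟨c, hc, rfl⟩ := R.phi_surj x
  have hc' : c ∈ centralizer ({z} : Set G) := hc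
  rw [act' h R hc' (cm_le V z hw), pi_mem_cc h R (conj_ws_z h hc' (cm_le V z hw))]
  exact conj_mem_of_normalizer h.isSub_cm.norm hc' hw

/-- a proper submodule is in `cc h R` -/
theorem sub_cc {X : AddSubgroup M} (hX : ∀ x : H, ∀ m ∈ X, x • m ∈ X) : X ≤ cc h R ∨ X = ⊤ := by
  by_cases e : toW h R X = ws V z
  · right
    rw [eq_top_iff]
    intro m _
    obtain ⟨w, hw, rfl⟩ := pi_surj' h R m
    rw [← e] at hw
    exact hw.2
  · left
    intro m hm
    obtain ⟨w, hw, rfl⟩ := pi_surj' h R m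
    exact ⟨w, h.le_cm (isSub_toW h R hX) e ⟨hw, hm⟩, rfl⟩

theorem cc_ne_top : cc h R ≠ ⊤ := by
  intro e
  apply h.cm_ne
  refine le_antisymm (cm_le V z) fun w hw => ?_
  rw [← pi_mem_cc h R hw, e]
  trivial

theorem faithful_cc {x : H} (hx : ∀ m : M, x • m - m ∈ cc h R) : x = 1 := by
  obtain ⟨c, hc, rfl⟩ := R.phi_surj x
  have hc' : c ∈ centralizer ({z} : Set G) := hc
  rw [h.phi_eq_one R hc]
  refine h.faithful hc' fun w hw => ?_
  have h1 := hx (R.pi w)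
  rw [comm_pi h R hc' hw] at h1
  exact (pi_mem_cc h R (mul_mem (conj_ws_z h hc' hw) (inv_mem hw))).1 h1

/-- the conjugates of `A` are trivial on `cc h R` -/
theorem comm_cc {y : G} (hy : y ∈ V) (hy1 : y ≠ 1) (hyz : y ≠ z) (x : H) {a m : _} (ha : a ∈ R.img (ww V cg y))
    (hm : m ∈ cc h R) : (x * a * x⁻¹) • m = m := by
  have hle : ww V cg y ≤ cg z := by rw [h.ww_cg hy hy1]; exact h.ws_le_cg hy hy1
  obtain ⟨w, hw, rfl⟩ := (R.mem_img hle).1 ha
  obtain ⟨c, hc, rfl⟩ := R.phi_surj x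
  obtain ⟨v, hv, rfl⟩ := hm
  have hwc := hle hw
  rw [h.ww_cg hy hy1] at hw
  have e : R.phi c * R.phi w * (R.phi c)⁻¹ = R.phi (c * w * c⁻¹) := by
    rw [R.phi_mul _ (mul_mem hc hwc) _ (inv_mem hc), R.phi_mul c hc w hwc, R.phi_inv hc]
  have hcw : c * w * c⁻¹ ∈ ws V (c * y * c⁻¹) := conj_mem_ws c hw
  have hnb : c * y * c⁻¹ ∈ nb V z := conj_mem_nb hc (h.mem_nb hy hy1 hyz)
  rw [e, ← sub_eq_zero, comm_pi h R (mul_mem (mul_mem hc hwc) (inv_mem hc)) (cm_le V z hv)]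
  have h1 := hv.2.2 _ hnb _ hcw
  rw [mem_zpowers_iff_of_mul_self h.ln.zz] at h1
  exact (pi_ker' h R (mul_mem (conj_ws_z h (mul_mem (mul_mem hc hwc) (inv_mem hc)) (cm_le V z hv))
    (inv_mem (cm_le V z hv)))).2 h1

theorem v0_not_mem {y : G} (hy : y ∈ V) (hy1 : y ≠ 1) (hyz : y ≠ z) : R.pi y ∉ cc h R := by
  rw [pi_mem_cc h R (h.ln.V_le_ws hy)]
  intro hc
  rcases h.inf_V h.isSub_cm h.cm_ne hy hc with e | e
  · exact hy1 e
  · exact hyz e

/-- the image of `ii V` -/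
def jm : AddSubgroup M := toM h R (ii V) (ii_le h.ln.z_mem h.ln.z_ne)

theorem jm_cc {m : M} (hm : m ∈ jm h R) (hc : m ∈ cc h R) : m = 0 := by
  obtain ⟨w, hw, rfl⟩ := hm
  have hw' := ii_le h.ln.z_mem h.ln.z_ne hw
  rw [pi_mem_cc h R hw'] at hc
  exact (pi_ker' h R hw').2 (h.lemma_i h.isSub_cm h.cm_ne hc hw)

theorem comm_mem_jm {y : G} (hy : y ∈ V) (hy1 : y ≠ 1) (hyz : y ≠ z) {a : H} (ha : a ∈ R.img (ww V cg y)) (m : M) :
    a • m - m ∈ jm h R := by
  have hle : ww V cg y ≤ cg z := by rw [h.ww_cg hy hy1]; exact h.ws_le_cg hy hy1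
  obtain ⟨w, hw, rfl⟩ := (R.mem_img hle).1 ha
  obtain ⟨v, hv, rfl⟩ := pi_surj' h R m
  rw [comm_pi h R (hle hw) hv]
  rw [h.ww_cg hy hy1] at hw
  exact ⟨_, h.comm_mem_ii hy hy1 h.ln.z_mem h.ln.z_ne (Ne.symm hyz) hw hv, rfl⟩

end basic

section index

variable (h : One T V z) (R : MRep V cg z M H) [Finite G]
include h

/-- `|A| = |W_y : E_y|` -/
theorem card_img {y : G} (hy : y ∈ V) (hy1 : y ≠ 1) (hyz : y ≠ z) :
    Nat.card (R.img (ww V cg y)) = (ee V y).relIndex (ws V y) := by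
  have hle : ww V cg y ≤ cg z := by rw [h.ww_cg hy hy1]; exact h.ws_le_cg hy hy1
  have hle' : ws V y ≤ cg z := h.ws_le_cg hy hy1
  let f : ws V y →* H := R.hom.comp (Subgroup.inclusion hle')
  have hf : ∀ w : ws V y, f w = R.phi w := fun w => rfl
  have hr : f.range = R.img (ww V cg y) := by
    ext x
    rw [R.mem_img hle, h.ww_cg hy hy1]
    constructor
    · rintro ⟨w, rfl⟩
      exact ⟨w, w.2, rfl⟩
    · rintro ⟨w, hw, rfl⟩
      exact ⟨⟨w, hw⟩, rfl⟩
  have hk : f.ker = (ee V y).subgroupOf (ws V y) := by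
    ext w
    rw [MonoidHom.mem_ker, hf, mem_subgroupOf, h.phi_eq_one R (hle' w.2)]
    constructor
    · exact fun hw => h.mem_ee hy hy1 h.ln.z_mem h.ln.z_ne (Ne.symm hyz) w.2 hw
    · exact fun hw => hw.2 z h.ln.z_mem h.ln.z_ne
  rw [← hr, ← index_ker, hk]
  rfl

/-- `w ↦ R.pi w` on `W_z` -/
def piHom : ws V z →* Multiplicative M where
  toFun w := Multiplicative.ofAdd (R.pi w)
  map_one' := congrArg Multiplicative.ofAdd ((pi_ker' h R (one_mem _)).2 (Or.inl rfl))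
  map_mul' := fun a b => congrArg Multiplicative.ofAdd (pi_mul' h R a.2 b.2)

/-- `|M : C_M(a)| ≤ 2|A|` -/
theorem index_fix {y : G} (hy : y ∈ V) (hy1 : y ≠ 1) (hyz : y ≠ z) {b : G} (hb : b ∈ ws V y) {C : AddSubgroup M}
    (hC : ∀ m : M, R.phi b • m = m → m ∈ C) : C.index ≤ 2 * Nat.card (R.img (ww V cg y)) := by
  have hz := h.ln.z_mem
  have hz1 := h.ln.z_ne
  have hbc : b ∈ centralizer ({z} : Set G) := h.ws_le_cg hy hy1 hb
  have hs : Function.Surjective (piHom h R) := fun m => by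
    obtain ⟨w, hw, e⟩ := pi_surj' h R m.toAdd
    exact ⟨⟨w, hw⟩, congrArg Multiplicative.ofAdd e⟩
  have h0 : C.index = ((AddSubgroup.toSubgroup C).comap (piHom h R)).index := by
    rw [Subgroup.index_comap_of_surjective _ hs, AddSubgroup.index_toSubgroup]
  have h1 : (cb V z b).subgroupOf (ws V z) ≤ (AddSubgroup.toSubgroup C).comap (piHom h R) := by
    intro w hw
    have hw' : (w : G) ∈ cb V z b := mem_subgroupOf.1 hw
    rw [h.mem_cb hz hz1] at hw'
    rw [mem_comap]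
    have key : R.pi w ∈ C := by
      refine hC _ ?_
      rw [← sub_eq_zero, comm_pi h R hbc w.2, pi_ker' h R (mul_mem (conj_ws_z h hbc w.2) (inv_mem w.2))]
      have h2 := hw'.2
      rw [mem_zpowers_iff_of_mul_self h.ln.zz] at h2
      have e : b * (w : G) * b⁻¹ * (w : G)⁻¹ = (⁅(w : G), b⁆)⁻¹ := by
        rw [commutatorElement_def]; group
      rcases h2 with e1 | e1
      · left; rw [e, e1, inv_one]
      · right; rw [e, e1]; exact inv_eq_self h.ln.zz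
    exact key
  have h3 : C.index ≤ (cb V z b).relIndex (ws V z) := by
    rw [h0]
    exact Nat.le_of_dvd (Nat.pos_of_ne_zero Subgroup.index_ne_zero_of_finite) (Subgroup.index_dvd_of_le h1)
  rw [card_img h R hy hy1 hyz]
  exact h3.trans (h.cb_le hz hz1 hy hy1 hyz hb)

end index

/-- quotient modules -/
theorem exists_quot (C : AddSubgroup M) (hC : ∀ x : H, ∀ m ∈ C, x • m ∈ C) :
    ∃ (N : Type u) (_ : AddCommGroup N) (_ : DistribMulAction H N) (p : M →+ N), Function.Surjective p ∧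
      p.ker = C ∧ ∀ (x : H) (m : M), p (x • m) = x • p m := by
  let f : H → (M ⧸ C →+ M ⧸ C) := fun x => QuotientAddGroup.map C C (DistribSMul.toAddMonoidHom M x) (hC x)
  have hf : ∀ (x : H) (m : M), f x (QuotientAddGroup.mk m) = QuotientAddGroup.mk (x • m) := fun x m => rfl
  let iA : DistribMulAction H (M ⧸ C) :=
    { smul := fun x n => f x n
      one_smul := fun n => by
        obtain ⟨m, rfl⟩ := QuotientAddGroup.mk_surjective n
        change f 1 (QuotientAddGroup.mk m) = _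
        rw [hf, one_smul]
      mul_smul := fun x y n => by
        obtain ⟨m, rfl⟩ := QuotientAddGroup.mk_surjective n
        change f (x * y) (QuotientAddGroup.mk m) = f x (f y (QuotientAddGroup.mk m))
        rw [hf, hf, hf, mul_smul]
      smul_zero := fun x => map_zero (f x)
      smul_add := fun x m n => map_add (f x) m n }
  refine ⟨M ⧸ C, inferInstance, iA, QuotientAddGroup.mk' C, QuotientAddGroup.mk'_surjective C,
    QuotientAddGroup.ker_mk' C, fun x m => rfl⟩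

end Cfsg.Agent.Omega.NO3S.SLTwo
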